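import Groth.Agent.L08.GITSep
import Groth.Agent.L08.InvFinite
import Mathlib.RingTheory.TensorProduct.Maps
import Mathlib.RingTheory.Spectrum.Prime.RingHom

/-!
# Base change of invariants of linearly reductive groups
-/

set_option autoImplicit false
set_option linter.style.haveILetI false
universe u

open TensorProduct

noncomputable section

namespace Groth.L14.GITAff

open Groth.L08

variable {k : Type u} [Field k] {A : Type u} [CommRing A] [HopfAlgebra k A]

section Quot

variable {R : Type u} [CommRing R] [Algebra k R] [HopfRep.Comod k A R] [GLin.IsCoactAlg k A R]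
  {B : Type u} [CommRing B] [Algebra B R]

variable (k A R B) in
/-- The image of `B` is exactly the invariants. -/
def IsInvRing : Prop := ∀ r : R, r ∈ HopfRep.fixedPts k A R ↔ r ∈ Set.range (algebraMap B R)

theorem exists_eq_of_mem_map (hB : IsInvRing k A R B) {α : A →ₗ[k] k} (hα : Groth.L08.IsIntegral α) (p : Ideal B) :
    ∀ y ∈ p.map (algebraMap B R), ∀ r : R, ∃ c ∈ p, rey R α (r * y) = algebraMap B R c := by
  intro y hy
  unfold Ideal.map at hy
  induction hy using Submodule.span_induction with
  | mem y hy =>
    obtain ⟨i, hi, rfl⟩ := hy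
    intro r
    obtain ⟨c, hc⟩ := (hB _).1 (hα.rey_mem r)
    refine ⟨c * i, p.mul_mem_left c hi, ?_⟩
    rw [rey_mul_fixed α r ((hB _).2 ⟨i, rfl⟩), map_mul, hc]
  | zero => intro r; exact ⟨0, zero_mem _, by simp⟩
  | add x y _ _ hx hy =>
    intro r
    obtain ⟨c, hc, e⟩ := hx r
    obtain ⟨d, hd, e'⟩ := hy r
    exact ⟨c + d, add_mem hc hd, by rw [mul_add, map_add, e, e', map_add]⟩
  | smul s x _ hx =>
    intro r
    obtain ⟨c, hc, e⟩ := hx (r * s)
    exact ⟨c, hc, by rw [smul_eq_mul, ← mul_assoc, e]⟩

/-- Lying over for a stable ideal. -/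
theorem exists_prime_over (hB : IsInvRing k A R B) (hinj : Function.Injective (algebraMap B R))
    (hG : HopfRep.IsLinearlyReductive k A) {I : Ideal R}
    (hI : HopfRep.IsSubcomod (k := k) (A := A) (I.restrictScalars k)) (p : PrimeSpectrum B)
    (hp : I.comap (algebraMap B R) ≤ p.asIdeal) :
    ∃ Q : PrimeSpectrum R, I ≤ Q.asIdeal ∧ PrimeSpectrum.comap (algebraMap B R) Q = p := by
  obtain ⟨α, hα⟩ := exists_isIntegral hG
  let f : B →+* R ⧸ I := (Ideal.Quotient.mk I).comp (algebraMap B R)
  have hle : (p.asIdeal.map f).comap f ≤ p.asIdeal := by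
    intro x hx
    rw [Ideal.mem_comap, ← Ideal.map_map, RingHom.comp_apply, Ideal.mem_quotient_iff_mem_sup] at hx
    obtain ⟨y, hy, i, hi, hyi⟩ := Submodule.mem_sup.1 hx
    obtain ⟨c, hc, e⟩ := exists_eq_of_mem_map hB hα p.asIdeal y hy 1
    obtain ⟨d, hd⟩ := (hB _).1 (hα.rey_mem i)
    have hd' : d ∈ p.asIdeal := hp (by
      rw [Ideal.mem_comap, hd]
      exact rey_mem_of_isSubcomod hI α hi)
    rw [one_mul] at e
    have hx' : x = c + d := hinj (by
      rw [map_add, ← e, hd, ← map_add, hyi, hα.rey_eq ((hB _).2 ⟨x, rfl⟩)])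
    rw [hx']
    exact add_mem hc hd'
  obtain ⟨Q, hQ⟩ := (PrimeSpectrum.mem_range_comap_iff (f := f) (p := p)).2 (le_antisymm hle Ideal.le_comap_map)
  refine ⟨PrimeSpectrum.comap (Ideal.Quotient.mk I) Q, fun x hx => ?_, ?_⟩
  · change Ideal.Quotient.mk I x ∈ Q.asIdeal
    rw [Ideal.Quotient.eq_zero_iff_mem.2 hx]
    exact zero_mem _
  · rw [← hQ]; rfl

/-- The image of the zero locus of a stable ideal. -/
theorem image_zeroLocus (hB : IsInvRing k A R B) (hinj : Function.Injective (algebraMap B R))
    (hG : HopfRep.IsLinearlyReductive k A) {I : Ideal R}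
    (hI : HopfRep.IsSubcomod (k := k) (A := A) (I.restrictScalars k)) :
    PrimeSpectrum.comap (algebraMap B R) '' PrimeSpectrum.zeroLocus (I : Set R) =
      PrimeSpectrum.zeroLocus (I.comap (algebraMap B R) : Set B) := by
  ext p
  constructor
  · rintro ⟨Q, hQ, rfl⟩
    exact Ideal.comap_mono hQ
  · intro hp
    obtain ⟨Q, hQ, e⟩ := exists_prime_over hB hinj hG hI p hp
    exact ⟨Q, hQ, e⟩

theorem comap_iSup (hB : IsInvRing k A R B) (hinj : Function.Injective (algebraMap B R))
    (hG : HopfRep.IsLinearlyReductive k A) {J : Type*} (I : J → Ideal R)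
    (hI : ∀ j, HopfRep.IsSubcomod (k := k) (A := A) ((I j).restrictScalars k)) :
    (⨆ j, I j).comap (algebraMap B R) = ⨆ j, (I j).comap (algebraMap B R) := by
  obtain ⟨α, hα⟩ := exists_isIntegral hG
  refine le_antisymm (fun x hx => ?_) (iSup_le fun j => Ideal.comap_mono (le_iSup I j))
  rw [Ideal.mem_comap] at hx
  have key : ∀ z ∈ ⨆ j, I j, ∃ c ∈ ⨆ j, (I j).comap (algebraMap B R), rey R α z = algebraMap B R c := by
    intro z hz
    induction hz using Submodule.iSup_induction' with
    | mem j z hz =>
      obtain ⟨c, hc⟩ := (hB _).1 (hα.rey_mem z)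
      refine ⟨c, Submodule.mem_iSup_of_mem j ?_, hc.symm⟩
      rw [Ideal.mem_comap, hc]
      exact rey_mem_of_isSubcomod (hI j) α hz
    | zero => exact ⟨0, zero_mem _, by simp⟩
    | add y z _ _ hy hz =>
      obtain ⟨c, hc, e⟩ := hy
      obtain ⟨d, hd, e'⟩ := hz
      exact ⟨c + d, add_mem hc hd, by rw [map_add, e, e', map_add]⟩
  obtain ⟨c, hc, e⟩ := key _ hx
  rw [hα.rey_eq ((hB _).2 ⟨x, rfl⟩)] at e
  rwa [hinj e]

/-- Images of intersections of zero loci of stable ideals. -/
theorem image_iInter_zeroLocus (hB : IsInvRing k A R B) (hinj : Function.Injective (algebraMap B R))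
    (hG : HopfRep.IsLinearlyReductive k A) {J : Type*} (I : J → Ideal R)
    (hI : ∀ j, HopfRep.IsSubcomod (k := k) (A := A) ((I j).restrictScalars k)) :
    PrimeSpectrum.comap (algebraMap B R) '' (⋂ j, PrimeSpectrum.zeroLocus (I j : Set R)) =
      ⋂ j, PrimeSpectrum.comap (algebraMap B R) '' PrimeSpectrum.zeroLocus (I j : Set R) := by
  simp only [image_zeroLocus hB hinj hG (hI _), ← PrimeSpectrum.zeroLocus_iSup]
  rw [image_zeroLocus hB hinj hG, comap_iSup hB hinj hG I hI]
  rw [isSubcomod_iff]
  intro φ v hv
  induction hv using Submodule.iSup_induction' with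
  | mem j z hz => exact Submodule.mem_iSup_of_mem j (fAct_mem_of_isSubcomod (hI j) φ hz)
  | zero => rw [map_zero]; exact zero_mem _
  | add y z _ _ hy hz => rw [map_add]; exact add_mem hy hz

end Quot

section BC

variable {R : Type u} [CommRing R] [Algebra k R] [HopfRep.Comod k A R] [GLin.IsCoactAlg k A R]
  (C' : Type u) [CommRing C'] [Algebra (GLin.invariants k A R) C'] [Algebra k C']
  [IsScalarTower k (GLin.invariants k A R) C']

theorem bc_commute (x y : (C' ⊗[GLin.invariants k A R] R) ⊗[k] A) : Commute x y := by
  show x * y = y * x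
  exact mul_comm x y

variable (k A R) in
/-- The coaction on a base change of the invariants. -/
def bcCoact : C' ⊗[GLin.invariants k A R] R →ₐ[k] (C' ⊗[GLin.invariants k A R] R) ⊗[k] A :=
  (Algebra.TensorProduct.lift
    (((Algebra.TensorProduct.includeLeft (R := k) (A := C' ⊗[GLin.invariants k A R] R) (B := A)
      (S := GLin.invariants k A R))).comp
        (Algebra.TensorProduct.includeLeft (R := GLin.invariants k A R) (A := C') (B := R)
          (S := GLin.invariants k A R)))
    ({ toRingHom := ((Algebra.TensorProduct.map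
          ((Algebra.TensorProduct.includeRight (R := GLin.invariants k A R) (A := C') (B := R)).restrictScalars k)
          (AlgHom.id k A)).comp (GLin.coactAlgHom k A R)).toRingHom
       commutes' := fun c => by
        change Algebra.TensorProduct.map _ _ (GLin.coactAlgHom k A R (c : R)) = _
        rw [show GLin.coactAlgHom k A R (c : R) = (c : R) ⊗ₜ[k] (1 : A) from c.2, Algebra.TensorProduct.map_tmul,
          Algebra.TensorProduct.algebraMap_apply]
        refine congrArg (· ⊗ₜ[k] (1 : A)) ?_
        exact (Algebra.TensorProduct.includeRight (R := GLin.invariants k A R) (A := C') (B := R)).commutes c } :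
      R →ₐ[GLin.invariants k A R] (C' ⊗[GLin.invariants k A R] R) ⊗[k] A)
    (fun _ _ => bc_commute C' _ _)).restrictScalars k

theorem bcCoact_tmul (c : C') (r : R) :
    bcCoact k A R C' (c ⊗ₜ r) = TensorProduct.map
      ((Algebra.TensorProduct.includeRight (R := GLin.invariants k A R) (A := C') (B := R)).restrictScalars k).toLinearMap
      LinearMap.id (HopfRep.Comod.coact (k := k) (A := A) r) * ((c ⊗ₜ[GLin.invariants k A R] (1 : R)) ⊗ₜ[k] (1 : A)) := by
  rw [mul_comm]
  rfl

theorem bcCoact_left (c : C') :
    bcCoact k A R C' (c ⊗ₜ (1 : R)) = (c ⊗ₜ[GLin.invariants k A R] (1 : R)) ⊗ₜ[k] (1 : A) := by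
  rw [bcCoact_tmul]
  have key : ∀ z : (C' ⊗[GLin.invariants k A R] R) ⊗[k] A, z = 1 →
      z * ((c ⊗ₜ[GLin.invariants k A R] (1 : R)) ⊗ₜ[k] (1 : A)) = (c ⊗ₜ[GLin.invariants k A R] (1 : R)) ⊗ₜ[k] (1 : A) := by
    rintro z rfl
    simp [Algebra.TensorProduct.one_def]
  refine key _ ?_
  exact map_one ((Algebra.TensorProduct.map
    ((Algebra.TensorProduct.includeRight (R := GLin.invariants k A R) (A := C') (B := R)).restrictScalars k)
    (AlgHom.id k A)).comp (GLin.coactAlgHom k A R))

variable (k A R) in
/-- The comodule structure on the base change. -/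
@[reducible] def bcComod : HopfRep.Comod k A (C' ⊗[GLin.invariants k A R] R) where
  coact := (bcCoact k A R C').toLinearMap
  coassoc := by
    let T := C' ⊗[GLin.invariants k A R] R
    let Φ : T →ₐ[k] T ⊗[k] (A ⊗[k] A) := (Algebra.TensorProduct.assoc k k k T A A).toAlgHom.comp
      ((Algebra.TensorProduct.map (bcCoact k A R C') (AlgHom.id k A)).comp (bcCoact k A R C'))
    let Ψ : T →ₐ[k] T ⊗[k] (A ⊗[k] A) :=
      (Algebra.TensorProduct.map (AlgHom.id k T) (Bialgebra.comulAlgHom k A)).comp (bcCoact k A R C')
    have hΦ : ∀ z, Φ z = Ψ z := by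
      intro z
      induction z using TensorProduct.induction_on with
      | zero => simp
      | add x y hx hy => rw [map_add, map_add, hx, hy]
      | tmul c r =>
        rw [show (c ⊗ₜ r : T) = (c ⊗ₜ 1) * (1 ⊗ₜ r) by simp, map_mul, map_mul]
        congr 1
        · change Algebra.TensorProduct.assoc k k k T A A (Algebra.TensorProduct.map _ _ (bcCoact k A R C' (c ⊗ₜ 1))) =
            Algebra.TensorProduct.map _ _ (bcCoact k A R C' (c ⊗ₜ 1))
          rw [bcCoact_left]
          change Algebra.TensorProduct.assoc k k k T A A (bcCoact k A R C' (c ⊗ₜ 1) ⊗ₜ[k] (1 : A)) =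
            (c ⊗ₜ 1 : T) ⊗ₜ[k] Coalgebra.comul (R := k) (1 : A)
          rw [bcCoact_left, Bialgebra.comul_one]
          rfl
        · let i := ((Algebra.TensorProduct.includeRight (R := GLin.invariants k A R) (A := C') (B := R)).restrictScalars k)
          have h1 : ∀ y, bcCoact k A R C' ((1 : C') ⊗ₜ y) =
              Algebra.TensorProduct.map i (AlgHom.id k A) (GLin.coactAlgHom k A R y) := by
            intro y
            rw [bcCoact_tmul, ← Algebra.TensorProduct.one_def, ← Algebra.TensorProduct.one_def, mul_one]
            rfl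
          have h2 : ∀ x : R ⊗[k] A, Algebra.TensorProduct.assoc k k k T A A
              (Algebra.TensorProduct.map (bcCoact k A R C') (AlgHom.id k A) (Algebra.TensorProduct.map i (AlgHom.id k A) x)) =
              Algebra.TensorProduct.map i (AlgHom.id k (A ⊗[k] A)) (TensorProduct.assoc k R A A
                ((HopfRep.Comod.coact (k := k) (A := A)).rTensor A x)) := by
            intro x
            induction x using TensorProduct.induction_on with
            | zero => simp
            | add p q hp hq => simp only [map_add, hp, hq]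
            | tmul r a =>
              simp only [Algebra.TensorProduct.map_tmul, AlgHom.coe_id, id_eq, LinearMap.rTensor_tmul]
              rw [show i r = (1 : C') ⊗ₜ r from rfl, h1]
              change _ = Algebra.TensorProduct.map i (AlgHom.id k (A ⊗[k] A))
                (TensorProduct.assoc k R A A (GLin.coactAlgHom k A R r ⊗ₜ[k] a))
              induction GLin.coactAlgHom k A R r using TensorProduct.induction_on with
              | zero => simp
              | add p q hp hq => simp only [map_add, TensorProduct.add_tmul, hp, hq]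
              | tmul p q => simp
          have h3 : ∀ x : R ⊗[k] A, Algebra.TensorProduct.map (AlgHom.id k T) (Bialgebra.comulAlgHom k A)
              (Algebra.TensorProduct.map i (AlgHom.id k A) x) =
              Algebra.TensorProduct.map i (AlgHom.id k (A ⊗[k] A)) ((Coalgebra.comul (R := k) (A := A)).lTensor R x) := by
            intro x
            induction x using TensorProduct.induction_on with
            | zero => simp
            | add p q hp hq => simp only [map_add, hp, hq]
            | tmul r a => simp
          simp only [Φ, Ψ, AlgHom.comp_apply, h1]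
          rw [AlgEquiv.toAlgHom_apply, h2, h3]
          exact congrArg _ (LinearMap.congr_fun (HopfRep.Comod.coassoc (k := k) (A := A) (V := R)) r)
    refine LinearMap.ext fun z => ?_
    exact hΦ z
  counit_comp := by
    let T := C' ⊗[GLin.invariants k A R] R
    let Φ : T →ₐ[k] T ⊗[k] k :=
      (Algebra.TensorProduct.map (AlgHom.id k T) (Bialgebra.counitAlgHom k A)).comp (bcCoact k A R C')
    have hΦ : ∀ z, Φ z = z ⊗ₜ[k] (1 : k) := by
      intro z
      induction z using TensorProduct.induction_on with
      | zero => simp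
      | add x y hx hy => rw [map_add, hx, hy, TensorProduct.add_tmul]
      | tmul c r =>
        rw [show (c ⊗ₜ r : T) = (1 ⊗ₜ r) * (c ⊗ₜ 1) by simp, map_mul]
        have hc : Φ (c ⊗ₜ 1) = (c ⊗ₜ 1 : T) ⊗ₜ[k] (1 : k) := by
          change Algebra.TensorProduct.map _ _ (bcCoact k A R C' (c ⊗ₜ 1)) = _
          rw [bcCoact_left]
          change (c ⊗ₜ 1 : T) ⊗ₜ[k] Coalgebra.counit (R := k) (1 : A) = _
          rw [Bialgebra.counit_one]
        have hr : Φ (1 ⊗ₜ r) = (1 ⊗ₜ r : T) ⊗ₜ[k] (1 : k) := by
          let i := ((Algebra.TensorProduct.includeRight (R := GLin.invariants k A R) (A := C') (B := R)).restrictScalars k)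
          have h1 : bcCoact k A R C' ((1 : C') ⊗ₜ r) =
              Algebra.TensorProduct.map i (AlgHom.id k A) (GLin.coactAlgHom k A R r) := by
            rw [bcCoact_tmul, ← Algebra.TensorProduct.one_def, ← Algebra.TensorProduct.one_def, mul_one]
            rfl
          have h2 : ∀ x : R ⊗[k] A, Algebra.TensorProduct.map (AlgHom.id k T) (Bialgebra.counitAlgHom k A)
              (Algebra.TensorProduct.map i (AlgHom.id k A) x) =
              Algebra.TensorProduct.map i (AlgHom.id k k) ((Coalgebra.counit (R := k) (A := A)).lTensor R x) := by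
            intro x
            induction x using TensorProduct.induction_on with
            | zero => simp
            | add p q hp hq => simp only [map_add, hp, hq]
            | tmul r a => simp
          change Algebra.TensorProduct.map _ _ (bcCoact k A R C' _) = _
          rw [h1, h2]
          exact congrArg _ (LinearMap.congr_fun (HopfRep.Comod.counit_comp (k := k) (A := A) (V := R)) r)
        rw [hr, hc, Algebra.TensorProduct.tmul_mul_tmul, mul_one]
    refine LinearMap.ext fun z => ?_
    exact hΦ z

theorem bc_isCoactAlg :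
    @GLin.IsCoactAlg k _ A _ _ (C' ⊗[GLin.invariants k A R] R) _ _ (bcComod k A R C') :=
  letI := bcComod k A R C'
  ⟨(bcCoact k A R C').map_one, (bcCoact k A R C').map_mul⟩

variable {C'}

/-- The invariants of a base change are the new base. -/
theorem bc_isInvRing (hG : HopfRep.IsLinearlyReductive k A) :
    letI := bcComod k A R C'
    IsInvRing k A (C' ⊗[GLin.invariants k A R] R) C' := by
  letI := bcComod k A R C'
  haveI := bc_isCoactAlg (k := k) (A := A) (R := R) C'
  obtain ⟨α, hα⟩ := exists_isIntegral hG
  intro z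
  constructor
  · intro hz
    rw [← hα.rey_eq hz]
    clear hz
    induction z using TensorProduct.induction_on with
    | zero => exact ⟨0, by simp⟩
    | add x y hx hy =>
      obtain ⟨a, ha⟩ := hx
      obtain ⟨b, hb⟩ := hy
      exact ⟨a + b, by rw [map_add, map_add, ha, hb]⟩
    | tmul c r =>
      let f : R →ₗ[k] C' ⊗[GLin.invariants k A R] R :=
        { toFun := fun x => c ⊗ₜ x
          map_add' := fun x y => TensorProduct.tmul_add _ _ _
          map_smul' := fun s x => TensorProduct.tmul_smul _ _ _ }
      have hf : Hoch.IsComodHom A f := by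
        refine LinearMap.ext fun x => ?_
        change bcCoact k A R C' (c ⊗ₜ x) = f.rTensor A (HopfRep.Comod.coact (k := k) (A := A) x)
        rw [bcCoact_tmul]
        induction HopfRep.Comod.coact (k := k) (A := A) x using TensorProduct.induction_on with
        | zero => simp
        | add p q hp hq => simp only [map_add, add_mul, hp, hq]
        | tmul p q =>
          simp [f]
      change rey _ α (f r) ∈ _
      rw [← rey_natural hf]
      refine ⟨(⟨rey R α r, hα.rey_mem r⟩ : GLin.invariants k A R) • c, ?_⟩
      change ((⟨rey R α r, hα.rey_mem r⟩ : GLin.invariants k A R) • c) ⊗ₜ[GLin.invariants k A R] (1 : R) = c ⊗ₜ rey R α r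
      rw [TensorProduct.smul_tmul]
      congr 1
      exact mul_one _
  · rintro ⟨c, rfl⟩
    change bcCoact k A R C' (c ⊗ₜ 1) = (c ⊗ₜ 1) ⊗ₜ[k] (1 : A)
    exact bcCoact_left C' c

/-- The new base injects. -/
theorem bc_injective (hG : HopfRep.IsLinearlyReductive k A) :
    Function.Injective (algebraMap C' (C' ⊗[GLin.invariants k A R] R)) := by
  obtain ⟨α, hα⟩ := exists_isIntegral hG
  let E : R →ₗ[GLin.invariants k A R] GLin.invariants k A R :=
    { toFun := fun r => ⟨rey R α r, hα.rey_mem r⟩
      map_add' := fun x y => Subtype.ext (map_add _ x y)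
      map_smul' := fun s x => Subtype.ext (by
        change rey R α ((s : R) * x) = (s : R) * rey R α x
        rw [mul_comm (s : R) x, rey_mul_fixed α x s.2, mul_comm]) }
  have h : ∀ c : C', TensorProduct.rid _ C' (E.lTensor C' (c ⊗ₜ (1 : R))) = c := by
    intro c
    have : E (1 : R) = 1 := Subtype.ext (hα.rey_eq (mem_fixedPts_iff.2 (by
      rw [GLin.IsCoactAlg.coact_one, Algebra.TensorProduct.one_def])))
    simp [this]
  intro a b hab
  rw [← h a, ← h b]
  exact congrArg (fun z => TensorProduct.rid _ C' (E.lTensor C' z)) hab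

end BC

end Groth.L14.GITAff
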