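import Groth.Agent.L25.Bridge.Lift
import Groth.Prelude.Def_CoactBr
import Groth.Prelude.Def_W4bk4git07Quot

/-!
# Actions of affine groups on affine schemes are coactions
-/

set_option autoImplicit false
set_option linter.style.haveILetI false
set_option backward.isDefEq.respectTransparency false
set_option backward.isDefEq.respectTransparency.types false
universe u

open CategoryTheory CategoryTheory.Limits MonoidalCategory CartesianMonoidalCategory MonObj GrpObj AlgebraicGeometry
open Opposite
open scoped TensorProduct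

noncomputable section

namespace Groth.L14.GITAff

open Groth.L25.Bridge (P)

variable {k : Type u} [Field k]

/-- `Spec` is full, at the spelling `CommRingCat.of k` -/
local instance fullAlgSpecOf : (algSpec (CommRingCat.of k)).Full := algSpec.instFull
local instance faithfulAlgSpecOf : (algSpec (CommRingCat.of k)).Faithful := algSpec.instFaithful
attribute [local instance] CoactBr.braidedAlgSpecOf

section Generic

variable {G X T : Over (Spec (CommRingCat.of k))} [GrpObj G] (a : AlgGrp.Action G X)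

/-- the right action `(x, g) ↦ g⁻¹ · x` -/
def rightAct : X ⊗ G ⟶ X := (β_ X G).hom ≫ (ι[G] ▷ X) ≫ a.act

theorem lift_rightAct (x : T ⟶ X) (g : T ⟶ G) : lift x g ≫ rightAct a = lift g⁻¹ x ≫ a.act := by
  rw [rightAct, lift_braiding_hom_assoc, lift_whiskerRight_assoc, Hom.inv_def]

theorem act_act (g h : T ⟶ G) (x : T ⟶ X) : lift g (lift h x ≫ a.act) ≫ a.act = lift (g * h) x ≫ a.act := by
  rw [Hom.mul_def, ← lift_whiskerRight, Category.assoc, a.mul_act, lift_lift_associator_hom_assoc,
    lift_whiskerLeft_assoc]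

theorem act_one (x : T ⟶ X) : lift (1 : T ⟶ G) x ≫ a.act = x := by
  rw [Hom.one_def, ← lift_whiskerRight, Category.assoc, a.one_act, lift_leftUnitor_hom]

theorem rightAct_one : (X ◁ η[G]) ≫ rightAct a = (ρ_ X).hom := by
  have e : (X ◁ η[G]) = lift (fst X (𝟙_ _)) (1 : X ⊗ 𝟙_ _ ⟶ G) := by
    rw [Hom.one_def, ← id_tensorHom, ← lift_fst_comp_snd_comp, Category.comp_id, toUnit_unique (toUnit _) (snd _ _)]
  rw [e, lift_rightAct, inv_one, act_one, rightUnitor_hom]

theorem rightAct_mul : (X ◁ μ[G]) ≫ rightAct a = (α_ X G G).inv ≫ (rightAct a ▷ G) ≫ rightAct a := by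
  have e1 : (X ◁ μ[G]) = lift (fst X (G ⊗ G)) ((snd _ _ ≫ fst G G) * (snd _ _ ≫ snd G G)) := by
    rw [Hom.mul_def, ← comp_lift, lift_fst_snd, Category.comp_id, ← id_tensorHom, ← lift_fst_comp_snd_comp,
      Category.comp_id]
  have e2 : (α_ X G G).inv = lift (lift (fst _ _) (snd _ _ ≫ fst _ _)) (snd _ _ ≫ snd _ _) := by
    rw [← lift_lift_associator_inv, lift_comp_fst_snd, lift_fst_snd, Category.id_comp]
  rw [e1, e2, lift_rightAct, lift_whiskerRight_assoc, lift_rightAct, lift_rightAct, act_act, _root_.mul_inv_rev]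

end Generic

section Right

variable {A R : Type u} [CommRing A] [HopfAlgebra k A] [CommRing R] [Algebra k R]

set_option maxHeartbeats 1000000 in
/-- Every action comes from a coaction. -/
theorem exists_coaction (a : AlgGrp.Action (CoactBr.sp k A) (CoactBr.sp k R)) :
    ∃ (c : HopfRep.Comod k A R) (_ : GLin.IsCoactAlg k A R), (CoactBr.action k A R).act = a.act := by
  let F := algSpec (CommRingCat.of k)
  let ra : F.obj (op (CommAlgCat.of k R)) ⊗ F.obj (op (CommAlgCat.of k A)) ⟶ F.obj (op (CommAlgCat.of k R)) :=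
    rightAct (G := CoactBr.sp k A) (X := CoactBr.sp k R) a
  obtain ⟨c₀, hc₀⟩ : ∃ c₀ : CommAlgCat.of k R ⟶ CommAlgCat.of k R ⊗ CommAlgCat.of k A,
      Functor.LaxMonoidal.μ F (op (.of k R)) (op (.of k A)) ≫ F.map c₀.op = ra := by
    obtain ⟨m, hm⟩ := F.map_surjective
      (inv (Functor.LaxMonoidal.μ F (op (CommAlgCat.of k R)) (op (CommAlgCat.of k A))) ≫ ra)
    refine ⟨m.unop, ?_⟩
    rw [Quiver.Hom.op_unop, hm, IsIso.hom_inv_id_assoc]
  have h1 := rightAct_one a
  have h2 := rightAct_mul a
  have hu : c₀ ≫ (CommAlgCat.of k R ◁ CommAlgCat.ofHom (Bialgebra.counitAlgHom k A)) =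
      (ρ_ (CommAlgCat.of k R)).inv := by
    apply Quiver.Hom.op_inj
    apply F.map_injective
    rw [← cancel_epi (Functor.LaxMonoidal.μ F (op (CommAlgCat.of k R)) (op (𝟙_ (CommAlgCat k)))),
      ← cancel_epi (F.obj (op (CommAlgCat.of k R)) ◁ Functor.LaxMonoidal.ε F)]
    have h : (F.obj (op (CommAlgCat.of k R)) ◁ (Functor.LaxMonoidal.ε F ≫
        F.map (CommAlgCat.ofHom (Bialgebra.counitAlgHom k A)).op)) ≫
          Functor.LaxMonoidal.μ F (op (.of k R)) (op (.of k A)) ≫ F.map c₀.op = (ρ_ _).hom := by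
      rw [hc₀]; exact h1
    rw [MonoidalCategory.whiskerLeft_comp, Category.assoc, Functor.LaxMonoidal.μ_natural_right_assoc,
      ← Functor.map_comp] at h
    refine h.trans ?_
    exact Functor.LaxMonoidal.right_unitality F (op (CommAlgCat.of k R))
  have hm : c₀ ≫ (CommAlgCat.of k R ◁ CommAlgCat.ofHom (Bialgebra.comulAlgHom k A)) =
      c₀ ≫ (c₀ ▷ CommAlgCat.of k A) ≫ (α_ (CommAlgCat.of k R) (CommAlgCat.of k A) (CommAlgCat.of k A)).hom := by
    apply Quiver.Hom.op_inj
    apply F.map_injective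
    rw [← cancel_epi (Functor.LaxMonoidal.μ F (op (CommAlgCat.of k R)) (op (CommAlgCat.of k A ⊗ CommAlgCat.of k A))),
      ← cancel_epi (F.obj (op (CommAlgCat.of k R)) ◁
        Functor.LaxMonoidal.μ F (op (CommAlgCat.of k A)) (op (CommAlgCat.of k A)))]
    have h : (F.obj (op (CommAlgCat.of k R)) ◁ (Functor.LaxMonoidal.μ F (op (.of k A)) (op (.of k A)) ≫
          F.map (CommAlgCat.ofHom (Bialgebra.comulAlgHom k A)).op)) ≫
          Functor.LaxMonoidal.μ F (op (.of k R)) (op (.of k A)) ≫ F.map c₀.op =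
        (α_ _ _ _).inv ≫ ((Functor.LaxMonoidal.μ F (op (.of k R)) (op (.of k A)) ≫ F.map c₀.op) ▷
          F.obj (op (.of k A))) ≫ Functor.LaxMonoidal.μ F (op (.of k R)) (op (.of k A)) ≫ F.map c₀.op := by
      rw [hc₀]; exact h2
    rw [MonoidalCategory.whiskerLeft_comp, Category.assoc, Functor.LaxMonoidal.μ_natural_right_assoc,
      ← Functor.map_comp, MonoidalCategory.comp_whiskerRight, Category.assoc,
      Functor.LaxMonoidal.μ_natural_left_assoc, ← Functor.map_comp] at h
    refine h.trans ?_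
    rw [← Functor.LaxMonoidal.associativity_inv_assoc, ← Functor.map_comp]
    rfl
  let φ : R →ₐ[k] R ⊗[k] A := c₀.hom
  have hu' : (Algebra.TensorProduct.map (AlgHom.id k R) (Bialgebra.counitAlgHom k A)).comp φ =
      (Algebra.TensorProduct.rid k k R).symm.toAlgHom := congrArg CommAlgCat.Hom.hom hu
  have hm' : (Algebra.TensorProduct.map (AlgHom.id k R) (Bialgebra.comulAlgHom k A)).comp φ =
      (Algebra.TensorProduct.assoc k k k R A A).toAlgHom.comp
        ((Algebra.TensorProduct.map φ (AlgHom.id k A)).comp φ) := congrArg CommAlgCat.Hom.hom hm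
  letI c : HopfRep.Comod k A R :=
    { coact := φ.toLinearMap
      coassoc := by
        refine LinearMap.ext fun r => ?_
        have hr := (DFunLike.congr_fun hm' r).symm
        simp only [AlgHom.comp_apply] at hr
        have hassoc : ∀ z, (Algebra.TensorProduct.assoc k k k R A A).toAlgHom z = TensorProduct.assoc k R A A z := by
          intro z; rfl
        rw [hassoc] at hr
        exact hr
      counit_comp := by
        refine LinearMap.ext fun r => ?_
        exact DFunLike.congr_fun hu' r }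
  haveI hc : GLin.IsCoactAlg k A R := ⟨φ.map_one, φ.map_mul⟩
  refine ⟨c, hc, ?_⟩
  have hract : CoactBr.ract k A R = rightAct a := by
    refine Eq.trans ?_ hc₀
    rfl
  have := CoactBr.lift_action_act (R := k) (A := A) (B := R)
    (fst (CoactBr.sp k A) (CoactBr.sp k R)) (snd _ _)
  rw [lift_fst_snd, Category.id_comp, hract, lift_rightAct, _root_.inv_inv, lift_fst_snd, Category.id_comp] at this
  exact this

end Right

/-- Affine group acting on affine scheme: a Hopf model. -/
theorem exists_model (G X : Over (Spec (CommRingCat.of k))) [GrpObj G] [IsAffine G.left] [IsAffine X.left]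
    (a : AlgGrp.Action G X) :
    ∃ (A : Type u) (_ : CommRing A) (_ : HopfAlgebra k A) (R : Type u) (_ : CommRing R) (_ : Algebra k R)
      (_ : HopfRep.Comod k A R) (_ : GLin.IsCoactAlg k A R) (e : Grp.mk G ≅ Grp.mk (P k A))
      (f : X ≅ CoactBr.sp k R), a.act ≫ f.hom = (e.hom.hom.hom ⊗ₘ f.hom) ≫ (CoactBr.action k A R).act := by
  obtain ⟨A, _, _, ⟨e⟩⟩ := Groth.L25.Bridge.exists_hopf G
  let R : Type u := Γ(X.left, ⊤)
  letI : Algebra k R := (Spec.preimage (X.left.isoSpec.inv ≫ X.hom)).hom.toAlgebra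
  have hR : Spec.map (CommRingCat.ofHom (algebraMap k R)) = X.left.isoSpec.inv ≫ X.hom := Spec.map_preimage _
  let f : X ≅ CoactBr.sp k R := Over.isoMk X.left.isoSpec (by
    change X.left.isoSpec.hom ≫ Spec.map (CommRingCat.ofHom (algebraMap k R)) = X.hom
    rw [hR, Iso.hom_inv_id_assoc])
  let eh : G ⟶ P k A := e.hom.hom.hom
  let ei : P k A ⟶ G := e.inv.hom.hom
  have he : eh ≫ ei = 𝟙 G := congrArg (fun z => z.hom.hom) e.hom_inv_id
  haveI : IsMonHom ei := e.inv.hom.isMonHom_hom
  let b : AlgGrp.Action (CoactBr.sp k A) (CoactBr.sp k R) :=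
    { act := (ei ⊗ₘ f.inv) ≫ a.act ≫ f.hom
      one_act := by
        have h : (η[CoactBr.sp k A] ▷ CoactBr.sp k R) = lift (1 : _ ⟶ CoactBr.sp k A) (snd _ _) := by
          rw [← tensorHom_id, ← lift_fst_comp_snd_comp, Category.comp_id, Hom.one_def,
            toUnit_unique (toUnit _) (fst _ _)]
        rw [h, lift_map_assoc, MonObj.one_comp, ← Category.assoc, act_one, Category.assoc, f.inv_hom_id,
          Category.comp_id, leftUnitor_hom]
      mul_act := by
        have h : (μ[CoactBr.sp k A] ▷ CoactBr.sp k R) =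
            lift ((fst _ _ ≫ fst _ _) * (fst _ _ ≫ snd _ _)) (snd _ (CoactBr.sp k R)) := by
          rw [Hom.mul_def, ← comp_lift, lift_fst_snd, Category.comp_id, ← tensorHom_id, ← lift_fst_comp_snd_comp,
            Category.comp_id]
        have h' : (α_ (CoactBr.sp k A) (CoactBr.sp k A) (CoactBr.sp k R)).hom =
            lift (fst _ _ ≫ fst _ _) (lift (fst _ _ ≫ snd _ _) (snd _ _)) := by
          rw [← lift_lift_associator_hom, lift_comp_fst_snd, lift_fst_snd, Category.id_comp]
        rw [h, h', lift_map_assoc, MonObj.mul_comp, lift_whiskerLeft_assoc, lift_map_assoc, lift_map_assoc,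
          ← Category.assoc, ← act_act a]
        simp only [Category.assoc, Iso.hom_inv_id, Category.comp_id] }
  obtain ⟨c, hc, h⟩ := exists_coaction b
  refine ⟨A, inferInstance, inferInstance, R, inferInstance, inferInstance, c, hc, e, f, ?_⟩
  rw [h]
  change _ = (eh ⊗ₘ f.hom) ≫ (ei ⊗ₘ f.inv) ≫ a.act ≫ f.hom
  rw [tensorHom_comp_tensorHom_assoc, he, f.hom_inv_id, id_tensorHom_id, Category.id_comp]

end Groth.L14.GITAff
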