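import Groth.Agent.L14.GITAff.Transport
import Groth.Agent.L14.RedLR.Main

/-!
# Geometric quotients and closed actions
-/

set_option autoImplicit false
set_option linter.style.haveILetI false
set_option backward.isDefEq.respectTransparency false
set_option backward.isDefEq.respectTransparency.types false
universe u

open CategoryTheory MonoidalCategory CartesianMonoidalCategory MonObj AlgebraicGeometry TopologicalSpace

noncomputable section

namespace Groth.L14.GITAff

variable {S : Scheme.{u}} {G X Y : Over S} [GrpObj G]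

theorem act_act' (a : AlgGrp.Action G X) {T : Over S} (g h : T ⟶ G) (x : T ⟶ X) :
    lift g (lift h x ≫ a.act) ≫ a.act = lift (g * h) x ≫ a.act := by
  rw [Hom.mul_def, ← lift_whiskerRight, Category.assoc, a.mul_act, lift_lift_associator_hom_assoc,
    lift_whiskerLeft_assoc]

theorem act_one' (a : AlgGrp.Action G X) {T : Over S} (x : T ⟶ X) : lift (1 : T ⟶ G) x ≫ a.act = x := by
  rw [Hom.one_def, ← lift_whiskerRight, Category.assoc, a.one_act, lift_leftUnitor_hom]

/-- Points over a cartesian square. -/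
theorem exists_preimage_isPullback {P A B C : Scheme.{u}} {p : P ⟶ A} {q : P ⟶ B} {f : A ⟶ C} {g : B ⟶ C}
    (h : IsPullback p q f g) (x : A) (y : B) (e : f.base x = g.base y) : ∃ z, p.base z = x ∧ q.base z = y := by
  obtain ⟨w, hw1, hw2⟩ := Scheme.Pullback.exists_preimage_pullback (f := f) (g := g) x y e
  refine ⟨h.isoPullback.inv.base w, ?_, ?_⟩
  · change (h.isoPullback.inv ≫ p).base w = x
    rw [h.isoPullback_inv_fst, hw1]
  · change (h.isoPullback.inv ≫ q).base w = y
    rw [h.isoPullback_inv_snd, hw2]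

/-- The orbit map of a point. -/
def orbMap (a : AlgGrp.Action G X) {T : Over S} (f : T ⟶ X) : G ⊗ T ⟶ X := (G ◁ f) ≫ a.act

theorem lift_orbMap (a : AlgGrp.Action G X) {T Q : Over S} (f : T ⟶ X) (g : Q ⟶ G) (t : Q ⟶ T) :
    lift g t ≫ orbMap a f = lift g (t ≫ f) ≫ a.act := by
  rw [orbMap, lift_whiskerLeft_assoc]

/-- The range of an orbit map is invariant. -/
theorem image_range_orbMap (a : AlgGrp.Action G X) {T : Over S} (f : T ⟶ X) :
    a.act.left.base '' ((snd G X).left.base ⁻¹' Set.range (orbMap a f).left.base) ⊆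
      Set.range (orbMap a f).left.base := by
  rintro _ ⟨p, ⟨q, hq⟩, rfl⟩
  have hp := Groth.L18.GITQ.isPullback_whiskerLeft G (orbMap a f)
  obtain ⟨r, hr1, -⟩ := exists_preimage_isPullback hp p q hq.symm
  refine ⟨((α_ G G T).inv ≫ (μ[G] ▷ T)).left.base r, ?_⟩
  have e : ((α_ G G T).inv ≫ (μ[G] ▷ T)) ≫ orbMap a f = (G ◁ orbMap a f) ≫ a.act := by
    rw [orbMap, MonoidalCategory.whiskerLeft_comp, Category.assoc, Category.assoc, ← whisker_exchange_assoc,
      a.mul_act, associator_naturality_right_assoc, Iso.inv_hom_id_assoc]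
  change (((α_ G G T).inv ≫ (μ[G] ▷ T)).left ≫ (orbMap a f).left).base r = _
  rw [← Over.comp_left, e, Over.comp_left, Scheme.Hom.comp_apply, hr1]

/-- A geometric quotient with separated base has closed orbits. -/
theorem isClosedAction_of_isGeomQuot (a : AlgGrp.Action G X) (φ : X ⟶ Y) [IsSeparated Y.hom]
    (h : GIT.IsGeomQuot a φ) : GIT.IsClosedAction a := by
  intro Ω _ _ T eT f
  let y : T ⟶ Y ⊗ T := lift (f ≫ φ) (𝟙 T)
  have hy : y ≫ snd Y T = 𝟙 T := lift_snd _ _
  haveI : IsClosedImmersion y.left := by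
    haveI : IsSeparated (snd Y T).left :=
      MorphismProperty.of_isPullback (P := @IsSeparated)
        (IsPullback.of_hasPullback Y.hom T.hom) inferInstance
    haveI : IsClosedImmersion (y.left ≫ (snd Y T).left) := by
      rw [← Over.comp_left, hy]; exact inferInstanceAs (IsClosedImmersion (𝟙 T.left))
    exact IsClosedImmersion.of_comp y.left (snd Y T).left
  suffices hrange : Set.range (GIT.psi a f).left.base = (φ ▷ T).left.base ⁻¹' Set.range y.left.base by
    rw [hrange]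
    exact y.left.isClosedEmbedding.isClosed_range.preimage (φ ▷ T).left.continuous
  have e₁ : GIT.psi a f ≫ (φ ▷ T) = snd G T ≫ y := by
    rw [GIT.psi, lift_whiskerRight, comp_lift, Category.comp_id, Category.assoc, h.inv, whiskerLeft_snd_assoc]
  apply Set.Subset.antisymm
  · rintro _ ⟨q, rfl⟩
    exact ⟨(snd G T).left.base q, by
      rw [← Scheme.Hom.comp_apply, ← Scheme.Hom.comp_apply, ← Over.comp_left, ← Over.comp_left, e₁]⟩
  · rintro z ⟨t, ht⟩
    -- the pullback of the orbit square along the fibre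
    let F := Limits.pullback (φ ▷ T).left y.left
    obtain ⟨w, hw1, hw2⟩ := Scheme.Pullback.exists_preimage_pullback (f := (φ ▷ T).left) (g := y.left) z t ht.symm
    let Fo : Over S := Over.mk (Limits.pullback.fst (φ ▷ T).left y.left ≫ (X ⊗ T).hom)
    let p₁ : Fo ⟶ X ⊗ T := Over.homMk (Limits.pullback.fst (φ ▷ T).left y.left) rfl
    let p₂ : Fo ⟶ T := Over.homMk (Limits.pullback.snd (φ ▷ T).left y.left) (by
      change _ ≫ T.hom = _ ≫ (X ⊗ T).hom
      rw [← Over.w (φ ▷ T), Limits.pullback.condition_assoc, Over.w y])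
    have hp : p₁ ≫ (φ ▷ T) = p₂ ≫ y := Over.OverMorphism.ext Limits.pullback.condition
    have hpT : p₁ ≫ snd X T = p₂ := by
      have := congrArg (· ≫ snd Y T) hp
      simp only [Category.assoc, whiskerRight_snd, hy, Category.comp_id] at this
      exact this
    have hpX : (p₁ ≫ fst X T) ≫ φ = (p₂ ≫ f) ≫ φ := by
      have := congrArg (· ≫ fst Y T) hp
      simp only [Category.assoc, whiskerRight_fst] at this
      rw [lift_fst] at this
      simpa [Category.assoc] using this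
    let ν : Fo.left ⟶ Limits.pullback φ.left φ.left :=
      Limits.pullback.lift (p₁ ≫ fst X T).left (p₂ ≫ f).left (congrArg CommaMorphism.left hpX)
    obtain ⟨v, hv⟩ := h.orbit (ν.base w)
    obtain ⟨r, hr1, hr2⟩ :=
      Scheme.Pullback.exists_preimage_pullback (f := ν) (g := GIT.PsiY a φ h.inv) w v hv.symm
    let R : Over S := Over.mk (Limits.pullback.fst ν (GIT.PsiY a φ h.inv) ≫ Fo.hom)
    let c₁ : R ⟶ Fo := Over.homMk (Limits.pullback.fst ν (GIT.PsiY a φ h.inv)) rfl
    let c₂ : R ⟶ G ⊗ X := Over.homMk (Limits.pullback.snd ν (GIT.PsiY a φ h.inv)) (by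
      change _ ≫ (G ⊗ X).hom = _ ≫ Fo.hom
      have e3 : ν ≫ Limits.pullback.snd φ.left φ.left ≫ X.hom = Fo.hom := by
        rw [Limits.pullback.lift_snd_assoc, Over.w]
      have e4 : GIT.PsiY a φ h.inv ≫ Limits.pullback.snd φ.left φ.left ≫ X.hom = (G ⊗ X).hom := by
        rw [GIT.PsiY, Limits.pullback.lift_snd_assoc, Over.w]
      rw [← e3, ← e4, Limits.pullback.condition_assoc])
    have hc₁ : c₂ ≫ a.act = c₁ ≫ p₁ ≫ fst X T := by
      apply Over.OverMorphism.ext
      change Limits.pullback.snd ν (GIT.PsiY a φ h.inv) ≫ a.act.left =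
        Limits.pullback.fst ν (GIT.PsiY a φ h.inv) ≫ (p₁ ≫ fst X T).left
      have l1 : GIT.PsiY a φ h.inv ≫ Limits.pullback.fst φ.left φ.left = a.act.left := Limits.pullback.lift_fst _ _ _
      rw [← l1, ← Limits.pullback.condition_assoc, Limits.pullback.lift_fst]
    have hc₂ : c₂ ≫ snd G X = c₁ ≫ p₂ ≫ f := by
      apply Over.OverMorphism.ext
      change Limits.pullback.snd ν (GIT.PsiY a φ h.inv) ≫ (snd G X).left =
        Limits.pullback.fst ν (GIT.PsiY a φ h.inv) ≫ (p₂ ≫ f).left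
      have l1 : GIT.PsiY a φ h.inv ≫ Limits.pullback.snd φ.left φ.left = (snd G X).left := Limits.pullback.lift_snd _ _ _
      rw [← l1, ← Limits.pullback.condition_assoc, Limits.pullback.lift_snd]
    let d : R ⟶ G ⊗ T := lift (c₂ ≫ fst G X) (c₁ ≫ p₂)
    have hd : d ≫ GIT.psi a f = c₁ ≫ p₁ := by
      rw [GIT.psi, comp_lift]
      refine CartesianMonoidalCategory.hom_ext _ _ ?_ ?_
      · rw [lift_fst, Category.assoc c₁, ← hc₁, lift_whiskerLeft_assoc, Category.assoc c₁, ← hc₂, ← comp_lift,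
          lift_fst_snd, Category.comp_id]
      · rw [lift_snd, lift_snd, Category.assoc, hpT]
    refine ⟨d.left.base r, ?_⟩
    change (d.left ≫ (GIT.psi a f).left).base r = z
    rw [← Over.comp_left, hd, Over.comp_left, Scheme.Hom.comp_apply]
    refine (congrArg _ ?_).trans hw1
    exact hr1

/-- Closed orbits give surjectivity of the orbit map of a base change. -/
theorem surjective_psiY {k : Type u} [Field k] [CharZero k] {G X Y : Over (Spec (CommRingCat.of k))} [GrpObj G]
    (hG : Red.IsReductive G) [IsAffine X.left] [IsAffine Y.left] (a : AlgGrp.Action G X) (φ : X ⟶ Y)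
    (h : GIT.IsUnivCatQuot a φ) (hc : GIT.IsClosedAction a) :
    Function.Surjective (GIT.PsiY a φ h.1.1).base := by
  intro z
  let Z := Limits.pullback φ.left φ.left
  let Ω := AlgebraicClosure (Z.residueField z)
  let i : Spec (CommRingCat.of Ω) ⟶ Z :=
    Spec.map (CommRingCat.ofHom (algebraMap (Z.residueField z) Ω)) ≫ Z.fromSpecResidueField z
  let T : Over (Spec (CommRingCat.of k)) := Over.mk (i ≫ Limits.pullback.fst φ.left φ.left ≫ X.hom)
  let x₁ : T ⟶ X := Over.homMk (i ≫ Limits.pullback.fst φ.left φ.left) (Category.assoc _ _ _)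
  let x₂ : T ⟶ X := Over.homMk (i ≫ Limits.pullback.snd φ.left φ.left) (by
    change (i ≫ _) ≫ X.hom = i ≫ _ ≫ X.hom
    rw [Category.assoc, ← Over.w φ, Limits.pullback.condition_assoc])
  have hx : x₂ ≫ φ = x₁ ≫ φ := Over.OverMorphism.ext (by
    change (i ≫ _) ≫ φ.left = (i ≫ _) ≫ φ.left
    exact (Category.assoc _ _ _).trans ((congrArg (i ≫ ·) Limits.pullback.condition.symm).trans
      (Category.assoc _ _ _).symm))
  let g : T ⟶ Y := x₁ ≫ φ
  let X' : Over (Spec (CommRingCat.of k)) := Over.mk (Limits.pullback.fst φ.left g.left ≫ X.hom)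
  let pr : X' ⟶ X := Over.homMk (Limits.pullback.fst φ.left g.left) rfl
  let φ' : X' ⟶ T := Over.homMk (Limits.pullback.snd φ.left g.left) (by
    change _ ≫ T.hom = _ ≫ X.hom
    rw [← Over.w g, ← Limits.pullback.condition_assoc, Over.w φ])
  have hpb : IsPullback pr φ' φ g :=
    Groth.L18.GITQ.isPullback_over (Over.OverMorphism.ext Limits.pullback.condition) (IsPullback.of_hasPullback _ _)
  obtain ⟨a', ha, hi⟩ := Groth.L18.GITQ.exists_baseChange_action a h.1.1 hpb
  haveI : IsAffine T.left := inferInstanceAs (IsAffine (Spec _))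
  haveI : IsAffine X'.left := inferInstanceAs (IsAffine (Limits.pullback φ.left g.left))
  have hq : GIT.IsUnivCatQuot a' φ' := Groth.L18.GITQ.isUnivCatQuot_baseChange h hpb ha hi
  -- the two points
  let u₁ : T ⟶ X' := hpb.lift x₁ (𝟙 T) (Category.id_comp _).symm
  let u₂ : T ⟶ X' := hpb.lift x₂ (𝟙 T) (hx.trans (Category.id_comp _).symm)
  -- closedness
  let c : X' ⟶ X ⊗ T := lift pr φ'
  have hcinj : Function.Injective c.left.base := by
    haveI : IsSeparated Y.hom := inferInstance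
    haveI : IsClosedImmersion c.left := by
      have hpb' : IsPullback c (pr ≫ φ) (lift (fst X T ≫ φ) (snd X T ≫ g)) (lift (𝟙 Y) (𝟙 Y)) := by
        refine ⟨⟨?_⟩, ⟨Limits.PullbackCone.isLimitAux' _ fun s => ?_⟩⟩
        · refine CartesianMonoidalCategory.hom_ext _ _ ?_ ?_
          · simp [c]
          · simp [c, hpb.w, g]
        · have hs := s.condition
          have h1 : (s.fst ≫ fst X T) ≫ φ = s.snd := by
            have := congrArg (· ≫ fst Y Y) hs
            simpa using this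
          have h2 : (s.fst ≫ snd X T) ≫ g = s.snd := by
            have := congrArg (· ≫ snd Y Y) hs
            simpa using this
          refine ⟨hpb.lift (s.fst ≫ fst X T) (s.fst ≫ snd X T) (h1.trans h2.symm), ?_, ?_, fun {m} hm1 _ => ?_⟩
          · refine CartesianMonoidalCategory.hom_ext _ _ ?_ ?_ <;> simp [c]
          · change hpb.lift _ _ _ ≫ pr ≫ φ = _
            rw [hpb.lift_fst_assoc, h1]
          · refine hpb.hom_ext ?_ ?_
            · rw [hpb.lift_fst, ← hm1]; simp [c]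
            · rw [hpb.lift_snd, ← hm1]; simp [c]
      haveI : IsClosedImmersion (lift (𝟙 Y) (𝟙 Y)).left := by
        haveI : IsClosedImmersion ((lift (𝟙 Y) (𝟙 Y)).left ≫ (fst Y Y).left) := by
          rw [← Over.comp_left, lift_fst]; exact inferInstanceAs (IsClosedImmersion (𝟙 Y.left))
        haveI : IsSeparated (fst Y Y).left :=
          MorphismProperty.of_isPullback (P := @IsSeparated)
            (IsPullback.of_hasPullback Y.hom Y.hom).flip inferInstance
        exact IsClosedImmersion.of_comp _ (fst Y Y).left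
      exact MorphismProperty.of_isPullback (P := @IsClosedImmersion) (hpb'.map (Over.forget _)).flip
        (show IsClosedImmersion (lift (𝟙 Y) (𝟙 Y)).left from ‹_›)
    exact c.left.isClosedEmbedding.injective
  have hW : ∀ (x : T ⟶ X) (u : T ⟶ X'), u ≫ pr = x → u ≫ φ' = 𝟙 T →
      IsClosed (Set.range (orbMap a' u).left.base) := by
    intro x u hu1 hu2
    have e : orbMap a' u ≫ c = GIT.psi a x := by
      rw [GIT.psi, orbMap, comp_lift, Category.assoc, ha, Category.assoc, hi, whiskerLeft_snd_assoc, hu2,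
        Category.comp_id, ← MonoidalCategory.whiskerLeft_comp_assoc, hu1]
    have e2 : Set.range (orbMap a' u).left.base = c.left.base ⁻¹' Set.range (GIT.psi a x).left.base := by
      ext w
      rw [← e]
      constructor
      · rintro ⟨q, rfl⟩; exact ⟨q, by rw [Over.comp_left, Scheme.Hom.comp_apply]⟩
      · rintro ⟨q, hq⟩
        rw [Over.comp_left, Scheme.Hom.comp_apply] at hq
        exact ⟨q, hcinj hq⟩
    rw [e2]
    exact (hc Ω T (Iso.refl _) x).preimage c.left.continuous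
  have hu₁ : u₁ ≫ pr = x₁ ∧ u₁ ≫ φ' = 𝟙 T := ⟨hpb.lift_fst _ _ _, hpb.lift_snd _ _ _⟩
  have hu₂ : u₂ ≫ pr = x₂ ∧ u₂ ≫ φ' = 𝟙 T := ⟨hpb.lift_fst _ _ _, hpb.lift_snd _ _ _⟩
  -- the orbits meet
  haveI : Nonempty (G ⊗ T).left := ⟨(lift (1 : T ⟶ G) (𝟙 T)).left.base (IsLocalRing.closedPoint Ω)⟩
  have hmeet : ¬ Disjoint (Set.range (orbMap a' u₁).left.base) (Set.range (orbMap a' u₂).left.base) := by
    intro hd
    obtain ⟨f, hf, hf₁, hf₂⟩ := exists_invariant_separating G X' hG a' _ _ (hW x₁ u₁ hu₁.1 hu₁.2)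
      (hW x₂ u₂ hu₂.1 hu₂.2) (image_range_orbMap a' u₁) (image_range_orbMap a' u₂) hd
    obtain ⟨-, hran⟩ := Groth.L18.GITQ.sections_of_isUnivCatQuot hq ⊤
    obtain ⟨c₀, hc₀⟩ := hran.ge ((isInvSection_top_iff φ' f).2 hf)
    let q := Classical.arbitrary (G ⊗ T).left
    have h1 := hf₁ ⟨q, rfl⟩
    have h2 := hf₂ ⟨q, rfl⟩
    rw [Scheme.zeroLocus_singleton, Set.mem_compl_iff, SetLike.mem_coe] at h1 h2
    have key : ∀ (u : T ⟶ X') (d : Γ(T.left, ⊤)),
        (orbMap a' u).left.base q ∉ X'.left.basicOpen (φ'.left.appTop d) → d = 0 := by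
      intro u d hd
      by_contra hne
      apply hd
      rw [← Scheme.preimage_basicOpen_top]
      change _ ∈ (Spec (CommRingCat.of Ω)).basicOpen d
      have hunit : IsUnit d := by
        have : IsUnit ((Scheme.ΓSpecIso (CommRingCat.of Ω)).hom d) := isUnit_iff_ne_zero.2 fun h0 => hne
          ((ConcreteCategory.bijective_of_isIso (Scheme.ΓSpecIso (CommRingCat.of Ω)).hom).1 (h0.trans (map_zero _).symm))
        have h' := this.map (Scheme.ΓSpecIso (CommRingCat.of Ω)).inv.hom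
        have h'' : (Scheme.ΓSpecIso (CommRingCat.of Ω)).inv ((Scheme.ΓSpecIso (CommRingCat.of Ω)).hom d) = d :=
          (Scheme.ΓSpecIso (CommRingCat.of Ω)).hom_inv_id_apply d
        exact h'' ▸ h'
      rw [Scheme.basicOpen_of_isUnit (X := Spec (CommRingCat.of Ω)) hunit]
      trivial
    have hc1 : c₀ = 0 := key u₁ c₀ (by rw [Scheme.Hom.appTop]; exact hc₀.symm ▸ h1)
    have hc2 : (1 : Γ(T.left, ⊤)) - c₀ = 0 := key u₂ _ (by
      rw [map_sub, map_one, Scheme.Hom.appTop]; exact hc₀.symm ▸ h2)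
    rw [hc1, sub_zero] at hc2
    haveI : Nontrivial Γ(T.left, ⊤) := (Scheme.ΓSpecIso (CommRingCat.of Ω)).commRingCatIsoToRingEquiv.nontrivial
    exact one_ne_zero hc2
  obtain ⟨w, ⟨q₁, hq₁⟩, q₂, hq₂⟩ := Set.not_disjoint_iff.1 hmeet
  obtain ⟨r, -, -⟩ := Scheme.Pullback.exists_preimage_pullback (f := (orbMap a' u₁).left) (g := (orbMap a' u₂).left)
    q₁ q₂ (hq₁.trans hq₂.symm)
  let Q : Over (Spec (CommRingCat.of k)) :=
    Over.mk (Limits.pullback.fst (orbMap a' u₁).left (orbMap a' u₂).left ≫ (G ⊗ T).hom)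
  let s₁ : Q ⟶ G ⊗ T := Over.homMk (Limits.pullback.fst (orbMap a' u₁).left (orbMap a' u₂).left) rfl
  let s₂ : Q ⟶ G ⊗ T := Over.homMk (Limits.pullback.snd (orbMap a' u₁).left (orbMap a' u₂).left) (by
    change _ ≫ (G ⊗ T).hom = _ ≫ (G ⊗ T).hom
    exact (congrArg (_ ≫ ·) (Over.w (orbMap a' u₂)).symm).trans ((Category.assoc _ _ _).symm.trans
      ((congrArg (· ≫ X'.hom) Limits.pullback.condition.symm).trans
        ((Category.assoc _ _ _).trans (congrArg (_ ≫ ·) (Over.w (orbMap a' u₁)))))))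
  have hs : s₁ ≫ orbMap a' u₁ = s₂ ≫ orbMap a' u₂ := Over.OverMorphism.ext Limits.pullback.condition
  let g₁ : Q ⟶ G := s₁ ≫ fst _ _
  let g₂ : Q ⟶ G := s₂ ≫ fst _ _
  let t : Q ⟶ T := s₁ ≫ snd _ _
  have ht : s₂ ≫ snd _ _ = t := by
    have := congrArg (· ≫ φ') hs
    have hi' : a'.act ≫ φ' = snd G X' ≫ φ' := hi
    simp only [orbMap, Category.assoc, hi', whiskerLeft_snd_assoc, hu₁.2, hu₂.2, Category.comp_id] at this
    exact this.symm
  have horb : lift g₁ (t ≫ x₁) ≫ a.act = lift g₂ (t ≫ x₂) ≫ a.act := by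
    have := congrArg (· ≫ pr) hs
    simp only [orbMap, Category.assoc, ha, ← MonoidalCategory.whiskerLeft_comp_assoc, hu₁.1, hu₂.1] at this
    rw [← lift_comp_fst_snd s₁, ← lift_comp_fst_snd s₂, lift_whiskerLeft_assoc, lift_whiskerLeft_assoc] at this
    rw [ht] at this
    exact this
  have hfin : lift (g₁⁻¹ * g₂) (t ≫ x₂) ≫ a.act = t ≫ x₁ := by
    rw [← act_act', ← horb, act_act', inv_mul_cancel, act_one']
  refine ⟨(lift (g₁⁻¹ * g₂) (t ≫ x₂)).left.base r, ?_⟩
  have e : (lift (g₁⁻¹ * g₂) (t ≫ x₂)).left ≫ GIT.PsiY a φ h.1.1 = t.left ≫ i := by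
    refine Limits.pullback.hom_ext ?_ ?_
    · rw [Category.assoc, GIT.PsiY, Limits.pullback.lift_fst, ← Over.comp_left, hfin, Over.comp_left, Category.assoc]
      rfl
    · rw [Category.assoc, GIT.PsiY, Limits.pullback.lift_snd, ← Over.comp_left, lift_snd, Over.comp_left,
        Category.assoc]
      rfl
  change ((lift (g₁⁻¹ * g₂) (t ≫ x₂)).left ≫ GIT.PsiY a φ h.1.1).base r = z
  rw [e, Scheme.Hom.comp_apply]
  have hz : ∀ p : Spec (CommRingCat.of Ω), i.base p = z := by
    intro p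
    have : i.base p ∈ Set.range (Z.fromSpecResidueField z).base := ⟨_, rfl⟩
    rw [Scheme.range_fromSpecResidueField] at this
    exact this
  exact hz _

/-- Transport of a universal categorical quotient along an isomorphism of the base. -/
theorem isUnivCatQuot_comp_iso {a : AlgGrp.Action G X} {Y' : Over S} {φ : X ⟶ Y} (e : Y ≅ Y')
    (h : GIT.IsUnivCatQuot a φ) (hq : GIT.IsCatQuot a (φ ≫ e.hom)) : GIT.IsUnivCatQuot a (φ ≫ e.hom) := by
  refine ⟨hq, fun X₁ Y₁ pr φ₁ g hg hpb a₁ ha₁ hi₁ => h.2 pr φ₁ (g ≫ e.inv) hg ?_ a₁ ha₁ hi₁⟩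
  have := hpb.paste_horiz (IsPullback.of_horiz_isIso (fst := 𝟙 X) (snd := φ ≫ e.hom) (f := φ) (g := e.inv)
    ⟨by simp⟩)
  simpa using this

/-- The reductive case. -/
theorem isGeomQuot_iff_isClosedAction {k : Type u} [Field k] [CharZero k]
    (G X Y : Over (Spec (CommRingCat.of k))) [GrpObj G] (hG : Red.IsReductive G) [IsAffine X.left]
    (a : AlgGrp.Action G X) (φ : X ⟶ Y) (hq : GIT.IsCatQuot a φ) :
    (GIT.IsGeomQuot a φ ↔ GIT.IsClosedAction a) ∧ (GIT.IsClosedAction a → GIT.IsUnivGeomQuot a φ) := by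
  obtain ⟨Y₀, φ₀, hY₀, -, -, hu₀, hs₀, -, -⟩ := exists_univCatQuot_affine G X hG a
  obtain ⟨u, hu, -⟩ := hu₀.1.2 Y φ hq.1
  obtain ⟨v, hv, -⟩ := hq.2 Y₀ φ₀ hu₀.1.1
  have huv : u ≫ v = 𝟙 Y₀ := (hu₀.1.2 Y₀ φ₀ hu₀.1.1).unique (show φ₀ ≫ u ≫ v = φ₀ by rw [reassoc_of% hu, hv])
    (show φ₀ ≫ 𝟙 Y₀ = φ₀ from Category.comp_id _)
  have hvu : v ≫ u = 𝟙 Y := (hq.2 Y φ hq.1).unique (show φ ≫ v ≫ u = φ by rw [reassoc_of% hv, hu])
    (show φ ≫ 𝟙 Y = φ from Category.comp_id _)
  let e : Y₀ ≅ Y := ⟨u, v, huv, hvu⟩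
  have hφ : φ₀ ≫ e.hom = φ := hu
  have huc : GIT.IsUnivCatQuot a φ := by
    have := isUnivCatQuot_comp_iso e hu₀ (hφ.symm ▸ hq)
    rwa [hφ] at this
  haveI : IsIso e.inv := ⟨u, hvu, huv⟩
  haveI : IsIso e.hom := ⟨v, huv, hvu⟩
  haveI : IsIso v.left := inferInstanceAs (IsIso ((Over.forget _).map e.inv))
  haveI : IsIso u.left := inferInstanceAs (IsIso ((Over.forget _).map e.hom))
  haveI : IsAffine Y.left := IsAffine.of_isIso v.left
  have hsub : GIT.IsUnivSubmersive φ.left := by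
    rw [← hφ, Over.comp_left]
    exact (MorphismProperty.cancel_right_of_respectsIso (MorphismProperty.universally _) φ₀.left u.left).2 hs₀
  have hgeo : GIT.IsClosedAction a → GIT.IsUnivGeomQuot a φ := fun hc =>
    Groth.L18.GITQ.isUnivGeomQuot_of_isUnivCatQuot huc hsub (surjective_psiY hG a φ huc hc)
  exact ⟨⟨fun h => isClosedAction_of_isGeomQuot a φ h, fun hc => (hgeo hc).1⟩, hgeo⟩

end Groth.L14.GITAff
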