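import Groth.Agent.L18.GIT.Quot
import Groth.Agent.L18.GIT.UnivQuot

/-!
# Quotient conditions are local on the base
-/

set_option autoImplicit false
set_option linter.style.haveILetI false
set_option backward.isDefEq.respectTransparency false

noncomputable section

universe u

open CategoryTheory MonoidalCategory CartesianMonoidalCategory MonObj AlgebraicGeometry TopologicalSpace Opposite

namespace Groth.L14.GITAff

variable {S : Scheme.{u}} {G X Y : Over S} [GrpObj G] (a : AlgGrp.Action G X) (φ : X ⟶ Y)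

/-- Being invariant restricts to smaller opens. -/
theorem isInvSection_res {U V : Y.left.Opens} (h : V ≤ U) {f : Γ(X.left, φ.left ⁻¹ᵁ U)}
    (hf : GIT.IsInvSection a φ U f) :
    GIT.IsInvSection a φ V (X.left.presheaf.map (homOfLE (φ.left.preimage_mono h)).op f) := by
  have hle : a.act.left ⁻¹ᵁ (φ.left ⁻¹ᵁ V) ⊓ (snd G X).left ⁻¹ᵁ (φ.left ⁻¹ᵁ V) ≤
      a.act.left ⁻¹ᵁ (φ.left ⁻¹ᵁ U) ⊓ (snd G X).left ⁻¹ᵁ (φ.left ⁻¹ᵁ U) :=
    inf_le_inf (a.act.left.preimage_mono (φ.left.preimage_mono h)) ((snd G X).left.preimage_mono (φ.left.preimage_mono h))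
  have h' := congrArg ((G ⊗ X).left.presheaf.map (homOfLE hle).op) hf
  simp only [GIT.IsInvSection] at h' ⊢
  rw [← CommRingCat.comp_apply, ← CommRingCat.comp_apply, Scheme.Hom.map_appLE, Scheme.Hom.map_appLE]
  rw [← CommRingCat.comp_apply, ← CommRingCat.comp_apply, Scheme.Hom.appLE_map, Scheme.Hom.appLE_map] at h'
  exact h'

/-- The invariant sections on all opens from a basis of opens. -/
theorem sections_of_basis (hi : GIT.IsInvariant a φ) (B : Y.left.Opens → Prop)
    (hB : ∀ (y : Y.left) (U : Y.left.Opens), y ∈ U → ∃ V : Y.left.Opens, B V ∧ y ∈ V ∧ V ≤ U)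
    (hinj : ∀ V : Y.left.Opens, B V → Function.Injective (φ.left.app V))
    (hsur : ∀ V : Y.left.Opens, B V → ∀ f, GIT.IsInvSection a φ V f → f ∈ Set.range (φ.left.app V))
    (U : Y.left.Opens) :
    Function.Injective (φ.left.app U) ∧ Set.range (φ.left.app U) = {f | GIT.IsInvSection a φ U f} := by
  have nat : ∀ {U' V : Y.left.Opens} (h : V ≤ U') (s : Γ(Y.left, U')),
      φ.left.app V (Y.left.presheaf.map (homOfLE h).op s) =
        X.left.presheaf.map (homOfLE (φ.left.preimage_mono h)).op (φ.left.app U' s) := by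
    intro U' V h s
    rw [← CommRingCat.comp_apply, Scheme.Hom.naturality]
    rfl
  have hinjU : ∀ U' : Y.left.Opens, Function.Injective (φ.left.app U') := by
    intro U' s t e
    refine Y.left.sheaf.eq_of_locally_eq' (fun V : {V : Y.left.Opens // B V ∧ V ≤ U'} => V.1) U'
      (fun V => homOfLE V.2.2) (fun y hy => ?_) s t fun V => ?_
    · obtain ⟨V, hV, hyV, hVU⟩ := hB y _ hy
      exact Opens.mem_iSup.2 ⟨⟨V, hV, hVU⟩, hyV⟩
    · refine hinj V.1 V.2.1 ?_
      exact (nat V.2.2 s).trans ((congrArg _ e).trans (nat V.2.2 t).symm)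
  refine ⟨hinjU U, Set.Subset.antisymm ?_ fun f hf => ?_⟩
  · rintro _ ⟨s, rfl⟩
    exact Groth.L18.GITQ.isInvSection_app a hi U s
  · choose s hs using fun V : {V : Y.left.Opens // B V ∧ V ≤ U} =>
      hsur V.1 V.2.1 _ (isInvSection_res a φ V.2.2 hf)
    obtain ⟨g, hg, -⟩ := Y.left.sheaf.existsUnique_gluing'
      (fun V : {V : Y.left.Opens // B V ∧ V ≤ U} => V.1) U (fun V => homOfLE V.2.2) (fun y hy => by
        obtain ⟨V, hV, hyV, hVU⟩ := hB y _ hy
        exact Opens.mem_iSup.2 ⟨⟨V, hV, hVU⟩, hyV⟩) s (fun V V' => by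
        refine hinjU _ ?_
        refine (nat inf_le_left (s V)).trans (Eq.trans ?_ (nat inf_le_right (s V')).symm)
        rw [hs, hs, ← CommRingCat.comp_apply, ← CommRingCat.comp_apply, ← Functor.map_comp, ← Functor.map_comp]
        rfl)
    refine ⟨g, X.left.sheaf.eq_of_locally_eq'
      (fun V : {V : Y.left.Opens // B V ∧ V ≤ U} => φ.left ⁻¹ᵁ V.1) (φ.left ⁻¹ᵁ U)
      (fun V => homOfLE (φ.left.preimage_mono V.2.2)) (fun x hx => ?_) _ _ fun V => ?_⟩
    · obtain ⟨V, hV, hyV, hVU⟩ := hB (φ.left.base x) _ hx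
      exact Opens.mem_iSup.2 ⟨⟨V, hV, hVU⟩, hyV⟩
    · exact (nat V.2.2 g).symm.trans ((congrArg _ (hg V)).trans (hs V))

/-- Categorical quotient and quotient map from conditions on a basis of opens. -/
theorem isCatQuot_of_basis (hi : GIT.IsInvariant a φ) (B : Y.left.Opens → Prop)
    (hB : ∀ (y : Y.left) (U : Y.left.Opens), y ∈ U → ∃ V : Y.left.Opens, B V ∧ y ∈ V ∧ V ≤ U)
    (hinj : ∀ V : Y.left.Opens, B V → Function.Injective (φ.left.app V))
    (hsur : ∀ V : Y.left.Opens, B V → ∀ f, GIT.IsInvSection a φ V f → f ∈ Set.range (φ.left.app V))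
    (hcl : ∀ V : Y.left.Opens, B V → ∀ W : Set X.left, IsClosed W →
      a.act.left.base '' ((snd G X).left.base ⁻¹' W) ⊆ W →
      ∃ Z : Set Y.left, IsClosed Z ∧ φ.left.base '' W ∩ V = Z ∩ V)
    (hint : ∀ V : Y.left.Opens, B V → ∀ (J : Type u) (W : J → Set X.left),
      (∀ i, IsClosed (W i) ∧ a.act.left.base '' ((snd G X).left.base ⁻¹' W i) ⊆ W i) →
      ∀ y ∈ V, (∀ i, y ∈ φ.left.base '' W i) → y ∈ φ.left.base '' (⋂ i, W i)) :
    GIT.IsCatQuot a φ ∧ Topology.IsQuotientMap φ.left.base := by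
  refine Groth.L18.GITQ.isCatQuot_of_closed a φ hi (sections_of_basis a φ hi B hB hinj hsur) (fun W hW hWi => ?_)
    (fun J W hW => ?_)
  · rw [← isOpen_compl_iff, isOpen_iff_forall_mem_open]
    intro y hy
    obtain ⟨V, hV, hyV, -⟩ := hB y ⊤ (Opens.mem_top y)
    obtain ⟨Z, hZ, e⟩ := hcl V hV W hW hWi
    refine ⟨(V : Set Y.left) \ Z, fun z hz hzW => hz.2 ?_, V.2.sdiff hZ, hyV, fun hyZ => hy ?_⟩
    · exact (e.le ⟨hzW, hz.1⟩).1
    · exact (e.ge ⟨hyZ, hyV⟩).1
  · refine Set.Subset.antisymm (Set.image_iInter_subset _ _) fun y hy => ?_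
    obtain ⟨V, hV, hyV, -⟩ := hB y ⊤ (Opens.mem_top y)
    exact hint V hV J W hW y hyV (Set.mem_iInter.1 hy)

end Groth.L14.GITAff
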