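import Groth.Agent.L14.GITAff.Separate
import Groth.Agent.L14.RedLR.Main

/-!
# Reductive groups acting on affine schemes in characteristic zero
-/

set_option autoImplicit false
set_option linter.style.haveILetI false
set_option backward.isDefEq.respectTransparency false
set_option backward.isDefEq.respectTransparency.types false
universe u

open CategoryTheory CategoryTheory.Limits MonoidalCategory CartesianMonoidalCategory MonObj AlgebraicGeometry
open scoped TensorProduct

noncomputable section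

namespace Groth.L14.GITAff

open Groth.L25.Bridge (P)

theorem isReductive_congr {S : Scheme.{u}} {G G' : Over S} [GrpObj G] [GrpObj G'] (e : Grp.mk G ≅ Grp.mk G')
    (h : Red.IsReductive G) : Red.IsReductive G' := by
  let g : G' ⟶ G := e.inv.hom.hom
  have h1 : e.hom.hom.hom ≫ g = 𝟙 G := congrArg (fun z => z.hom.hom) e.hom_inv_id
  have h2 : g ≫ e.hom.hom.hom = 𝟙 G' := congrArg (fun z => z.hom.hom) e.inv_hom_id
  haveI : IsIso g := ⟨e.hom.hom.hom, h2, h1⟩
  haveI : IsIso g.left := inferInstanceAs (IsIso ((Over.forget _).map g))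
  obtain ⟨ha, hs, hf⟩ := h
  haveI := ha
  haveI := hs
  refine ⟨?_, ?_, fun s => Groth.L14.RedLR.isReductiveOver_congr ((Over.pullback (Red.geomPt s)).mapGrp.mapIso e) (hf s)⟩
  · rw [← Over.w g]; infer_instance
  · rw [← Over.w g]; infer_instance

/-- The data of a reductive group acting on an affine scheme over a field of characteristic zero. -/
theorem exists_model_reductive {k : Type u} [Field k] [CharZero k] (G X : Over (Spec (CommRingCat.of k))) [GrpObj G]
    (hG : Red.IsReductive G) [IsAffine X.left] (a : AlgGrp.Action G X) :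
    ∃ (A : Type u) (_ : CommRing A) (_ : HopfAlgebra k A) (_ : Algebra.FiniteType k A) (_ : _root_.IsReduced A)
      (R : Type u) (_ : CommRing R) (_ : Algebra k R) (_ : HopfRep.Comod k A R) (_ : GLin.IsCoactAlg k A R)
      (e : Grp.mk G ≅ Grp.mk (P k A)) (f : X ≅ CoactBr.sp k R),
      HopfRep.IsLinearlyReductive k A ∧
        a.act ≫ f.hom = (e.hom.hom.hom ⊗ₘ f.hom) ≫ (CoactBr.action k A R).act := by
  haveI := hG.1
  haveI : IsAffine G.left := isAffine_of_isAffineHom G.hom
  obtain ⟨A, _, _, R, _, _, c, hc, e, f, h⟩ := exists_model G X a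
  have hG' := isReductive_congr e hG
  haveI : Algebra.FiniteType k A := Groth.L14.RedLR.finiteType_of_smooth hG'.2.1
  exact ⟨A, _, _, inferInstance, Groth.L08.CartierRed.isReduced_of_charZero (k := k), R, _, _, c, hc, e, f,
    Groth.L14.RedLR.isLinearlyReductive_of_isReductive hG', h⟩

/-- **Invariant functions separate closed invariant subsets.** -/
theorem exists_invariant_separating {k : Type u} [Field k] [CharZero k]
    (G X : Over (Spec (CommRingCat.of k))) [GrpObj G] (hG : Red.IsReductive G) [IsAffine X.left]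
    (a : AlgGrp.Action G X) (W₁ W₂ : Set X.left) (h₁ : IsClosed W₁) (h₂ : IsClosed W₂)
    (hi₁ : a.act.left.base '' ((snd G X).left.base ⁻¹' W₁) ⊆ W₁)
    (hi₂ : a.act.left.base '' ((snd G X).left.base ⁻¹' W₂) ⊆ W₂) (hd : Disjoint W₁ W₂) :
    ∃ f : Γ(X.left, ⊤), a.act.left.appTop f = (snd G X).left.appTop f ∧
      W₁ ⊆ X.left.zeroLocus (U := ⊤) {f} ∧ W₂ ⊆ X.left.zeroLocus (U := ⊤) {1 - f} := by
  obtain ⟨A, _, _, _, _, R, _, _, _, _, e, f, hLR, hact⟩ := exists_model_reductive G X hG a
  let eh : G ⟶ P k A := e.hom.hom.hom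
  let ei : P k A ⟶ G := e.inv.hom.hom
  have he : ei ≫ eh = 𝟙 _ := congrArg (fun z => z.hom.hom) e.inv_hom_id
  have hτ : (CoactBr.action k A R).act ≫ f.inv = (ei ⊗ₘ f.inv) ≫ a.act := by
    rw [Iso.comp_inv_eq, Category.assoc, hact, tensorHom_comp_tensorHom_assoc, he, f.inv_hom_id,
      id_tensorHom_id, Category.id_comp]
  have hinv : ∀ W : Set X.left, a.act.left.base '' ((snd G X).left.base ⁻¹' W) ⊆ W →
      (CoactBr.action k A R).act.left.base ''
        ((snd (CoactBr.sp k A) (CoactBr.sp k R)).left.base ⁻¹' (f.inv.left.base ⁻¹' W)) ⊆ f.inv.left.base ⁻¹' W := by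
    rintro W hW _ ⟨p, hp, rfl⟩
    change ((CoactBr.action k A R).act.left ≫ f.inv.left).base p ∈ W
    rw [← Over.comp_left, hτ]
    refine hW ⟨(ei ⊗ₘ f.inv).left.base p, ?_, rfl⟩
    change ((ei ⊗ₘ f.inv).left ≫ (snd G X).left).base p ∈ W
    rw [← Over.comp_left, tensorHom_snd]
    exact hp
  let W₁' : Set (PrimeSpectrum R) := f.inv.left.base ⁻¹' W₁
  let W₂' : Set (PrimeSpectrum R) := f.inv.left.base ⁻¹' W₂
  have hc₁ : IsClosed W₁' := h₁.preimage f.inv.left.continuous
  have hc₂ : IsClosed W₂' := h₂.preimage f.inv.left.continuous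
  have hs₁ := isSubcomod_vanishingIdeal (A := A) W₁' hc₁ (image_ract (hinv W₁ hi₁))
  have hs₂ := isSubcomod_vanishingIdeal (A := A) W₂' hc₂ (image_ract (hinv W₂ hi₂))
  have htop : PrimeSpectrum.vanishingIdeal W₁' ⊔ PrimeSpectrum.vanishingIdeal W₂' = ⊤ := by
    rw [← PrimeSpectrum.zeroLocus_empty_iff_eq_top, PrimeSpectrum.zeroLocus_sup,
      PrimeSpectrum.zeroLocus_vanishingIdeal_eq_closure, PrimeSpectrum.zeroLocus_vanishingIdeal_eq_closure,
      hc₁.closure_eq, hc₂.closure_eq]
    exact Set.disjoint_iff_inter_eq_empty.1 (hd.preimage _)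
  obtain ⟨r, hr, hr₁, hr₂⟩ := Groth.L08.GITSep.exists_fixed_sep hLR hs₁ hs₂ htop
  let F : Γ(X.left, ⊤) := f.hom.left.appTop ((Scheme.ΓSpecIso (CommRingCat.of R)).inv r)
  have key : ∀ (W : Set X.left) (q : R), q ∈ PrimeSpectrum.vanishingIdeal (f.inv.left.base ⁻¹' W) →
      W ⊆ X.left.zeroLocus (U := ⊤) {f.hom.left.appTop ((Scheme.ΓSpecIso (CommRingCat.of R)).inv q)} := by
    intro W q hq x hx
    rw [Scheme.zeroLocus_singleton, Set.mem_compl_iff, SetLike.mem_coe, ← Scheme.preimage_basicOpen_top]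
    change f.hom.left.base x ∉ (Spec (CommRingCat.of R)).basicOpen ((Scheme.ΓSpecIso (CommRingCat.of R)).inv q)
    rw [basicOpen_eq_of_affine]
    change ¬ (q ∉ (f.hom.left.base x).asIdeal)
    rw [not_not]
    refine (PrimeSpectrum.mem_vanishingIdeal _ _).1 hq _ ?_
    change (f.hom.left ≫ f.inv.left).base x ∈ W
    rw [← Over.comp_left, f.hom_inv_id]
    exact hx
  refine ⟨F, ?_, key W₁ r hr₁, ?_⟩
  · let ψ : X ⟶ CoactBr.sp k (Polynomial k) := f.hom ≫ fnMor k R r
    have hψ : a.act ≫ ψ = snd G X ≫ ψ := by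
      rw [← Category.assoc, hact, Category.assoc, act_fnMor hr, ← Category.assoc, tensorHom_snd, Category.assoc]
    have hF : F = ψ.left.appTop ((Scheme.ΓSpecIso (CommRingCat.of (Polynomial k))).inv Polynomial.X) := by
      change f.hom.left.appTop _ = f.hom.left.appTop ((fnMor k R r).left.appTop _)
      refine congrArg _ ?_
      rw [fnMor, CoactBr.pt_left]
      have := congrArg (fun z => z.hom Polynomial.X)
        (Scheme.ΓSpecIso_inv_naturality (CommRingCat.ofHom (Polynomial.aeval r : Polynomial k →ₐ[k] R).toRingHom))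
      simp only [CommRingCat.hom_comp, RingHom.comp_apply] at this
      refine Eq.trans ?_ this
      refine congrArg (Scheme.ΓSpecIso (CommRingCat.of R)).inv.hom ?_
      exact (Polynomial.aeval_X r).symm
    have := congrArg (fun z => z.left.appTop ((Scheme.ΓSpecIso (CommRingCat.of (Polynomial k))).inv Polynomial.X)) hψ
    rw [hF]
    exact this
  · have := key W₂ (1 - r) hr₂
    rwa [map_sub, map_sub, map_one, map_one] at this

end Groth.L14.GITAff
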