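import Groth.Agent.L14.GITAff.Separate
import Groth.Agent.L14.GITAff.BCAlg
import Groth.Agent.L14.GITAff.Loc
import Mathlib.Algebra.Category.Ring.Constructions
import Mathlib.AlgebraicGeometry.Pullbacks

/-!
# The affine quotient is a universal categorical quotient
-/

set_option autoImplicit false
set_option linter.style.haveILetI false
set_option backward.isDefEq.respectTransparency false
set_option backward.isDefEq.respectTransparency.types false
universe u

open CategoryTheory MonoidalCategory CartesianMonoidalCategory MonObj GrpObj AlgebraicGeometry TopologicalSpace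
open Opposite
open scoped TensorProduct

noncomputable section

namespace Groth.L14.GITAff

variable {k : Type u} [Field k] {A : Type u} [CommRing A] [HopfAlgebra k A]

/-- `Spec` is full, at the spelling `CommRingCat.of k` -/
local instance fullAlgSpecOf' : (algSpec (CommRingCat.of k)).Full := algSpec.instFull
attribute [local instance] CoactBr.braidedAlgSpecOf

/-- Equivariance passes from the right action to the left one. -/
theorem leftOfRight_natural {G X X' : Over (Spec (CommRingCat.of k))} [GrpObj G] (r' : X' ⊗ G ⟶ X') (r : X ⊗ G ⟶ X)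
    (f : X' ⟶ X) (h : r' ≫ f = (f ▷ G) ≫ r) :
    CoactBr.leftOfRight r' ≫ f = (G ◁ f) ≫ CoactBr.leftOfRight r := by
  have key : ∀ {T : Over (Spec (CommRingCat.of k))} (g : T ⟶ G) (x : T ⟶ X'),
      (lift g x ≫ CoactBr.leftOfRight r') ≫ f = lift g (x ≫ f) ≫ CoactBr.leftOfRight r := by
    intro T g x
    rw [CoactBr.lift_leftOfRight, CoactBr.lift_leftOfRight, Category.assoc, h, lift_whiskerRight_assoc]
  have := key (fst G X') (snd _ _)
  rw [lift_fst_snd, Category.id_comp] at this
  rw [this]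
  congr 1

/-- A comodule algebra map is equivariant. -/
theorem act_pt {R R' : Type u} [CommRing R] [Algebra k R] [HopfRep.Comod k A R] [GLin.IsCoactAlg k A R]
    [CommRing R'] [Algebra k R'] [HopfRep.Comod k A R'] [GLin.IsCoactAlg k A R'] (i : R →ₐ[k] R')
    (hi : (GLin.coactAlgHom k A R').comp i =
      (Algebra.TensorProduct.map i (AlgHom.id k A)).comp (GLin.coactAlgHom k A R)) :
    (CoactBr.action k A R').act ≫ CoactBr.pt i =
      (CoactBr.sp k A ◁ CoactBr.pt i) ≫ (CoactBr.action k A R).act := by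
  let F := algSpec (CommRingCat.of k)
  have hr : CoactBr.ract k A R' ≫ CoactBr.pt i = (CoactBr.pt i ▷ CoactBr.sp k A) ≫ CoactBr.ract k A R := by
    change (Functor.LaxMonoidal.μ F (op (.of k R')) (op (.of k A)) ≫ F.map (CoactBr.coactHom k A R').op) ≫
        F.map (CommAlgCat.ofHom i).op =
      (F.map (CommAlgCat.ofHom i).op ▷ F.obj (op (.of k A))) ≫
        Functor.LaxMonoidal.μ F (op (.of k R)) (op (.of k A)) ≫ F.map (CoactBr.coactHom k A R).op
    rw [Category.assoc, ← Functor.map_comp, Functor.LaxMonoidal.μ_natural_left_assoc, ← Functor.map_comp]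
    refine congrArg (Functor.LaxMonoidal.μ F (op (.of k R')) (op (.of k A)) ≫ ·) (congrArg F.map ?_)
    apply Quiver.Hom.unop_inj
    exact CommAlgCat.hom_ext hi
  exact leftOfRight_natural _ _ _ hr

/-- Sections along an open immersion onto an open. -/
theorem bijective_appLE {T Z : Scheme.{u}} (m : T ⟶ Z) [IsOpenImmersion m] {P : Z.Opens} (hP : P = m ''ᵁ ⊤)
    (h : ⊤ ≤ m ⁻¹ᵁ P) : Function.Bijective (m.appLE P ⊤ h) := by
  subst hP
  rw [← Scheme.Hom.appIso_hom']
  exact ConcreteCategory.bijective_of_isIso _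

section Ract

variable {R : Type u} [CommRing R] [Algebra k R] [HopfRep.Comod k A R] [GLin.IsCoactAlg k A R]

/-- An element invariant as a global function is fixed by the coaction. -/
theorem mem_fixedPts_of_appTop (r : R)
    (h : (CoactBr.action k A R).act.left.appTop ((Scheme.ΓSpecIso (CommRingCat.of R)).inv r) =
      (snd (CoactBr.sp k A) (CoactBr.sp k R)).left.appTop ((Scheme.ΓSpecIso (CommRingCat.of R)).inv r)) :
    r ∈ HopfRep.fixedPts k A R := by
  let σ : CoactBr.sp k R ⊗ CoactBr.sp k A ⟶ CoactBr.sp k A ⊗ CoactBr.sp k R :=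
    lift (snd _ _)⁻¹ (fst _ _)
  have h1 : σ ≫ (CoactBr.action k A R).act = CoactBr.ract k A R := by
    rw [CoactBr.lift_action_act, _root_.inv_inv, lift_fst_snd, Category.id_comp]
  have h2 : σ ≫ snd _ _ = fst _ _ := lift_snd _ _
  have h3 : (CoactBr.ract k A R).left.appTop ((Scheme.ΓSpecIso (CommRingCat.of R)).inv r) =
      (fst (CoactBr.sp k R) (CoactBr.sp k A)).left.appTop ((Scheme.ΓSpecIso (CommRingCat.of R)).inv r) := by
    rw [← h1, ← h2]
    exact congrArg σ.left.appTop h
  have e1 : (pullbackSpecIso k R A).inv ≫ (CoactBr.ract k A R).left =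
      Spec.map (CommRingCat.ofHom (GLin.coactAlgHom k A R).toRingHom) := by
    rw [CoactBr.ract_left, Iso.inv_hom_id_assoc]
  have e2 : (pullbackSpecIso k R A).inv ≫ (fst (CoactBr.sp k R) (CoactBr.sp k A)).left =
      Spec.map (CommRingCat.ofHom Algebra.TensorProduct.includeLeftRingHom) := pullbackSpecIso_inv_fst k R A
  have h4 : (Spec.map (CommRingCat.ofHom (GLin.coactAlgHom k A R).toRingHom)).appTop
      ((Scheme.ΓSpecIso (CommRingCat.of R)).inv r) =
      (Spec.map (CommRingCat.ofHom (Algebra.TensorProduct.includeLeftRingHom :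
        R →+* R ⊗[k] A))).appTop ((Scheme.ΓSpecIso (CommRingCat.of R)).inv r) := by
    rw [← e1, ← e2]
    exact congrArg (pullbackSpecIso k R A).inv.appTop h3
  have n1 := congrArg (fun z => z.hom r)
    (Scheme.ΓSpecIso_inv_naturality (CommRingCat.ofHom (GLin.coactAlgHom k A R).toRingHom))
  have n2 := congrArg (fun z => z.hom r)
    (Scheme.ΓSpecIso_inv_naturality (CommRingCat.ofHom (Algebra.TensorProduct.includeLeftRingHom : R →+* R ⊗[k] A)))
  simp only [CommRingCat.hom_comp, RingHom.comp_apply] at n1 n2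
  have h5 := (ConcreteCategory.bijective_of_isIso (Scheme.ΓSpecIso (CommRingCat.of (R ⊗[k] A))).inv).1
    (n1.trans (h4.trans n2.symm))
  exact h5

variable (k A R) in
/-- The affine quotient map. -/
def quotMap : CoactBr.sp k R ⟶ CoactBr.sp k (GLin.invariants k A R) := CoactBr.pt (GLin.invariants k A R).val

theorem quotMap_invariant : GIT.IsInvariant (CoactBr.action k A R) (quotMap k A R) := by
  rw [GIT.IsInvariant, CoactBr.action_act_comp_eq_iff]
  apply Over.OverMorphism.ext
  rw [Over.comp_left, Over.comp_left, quotMap, CoactBr.pt_left, CoactBr.ract_left]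
  have e : (fst (CoactBr.sp k R) (CoactBr.sp k A)).left = (pullbackSpecIso k R A).hom ≫
      Spec.map (CommRingCat.ofHom Algebra.TensorProduct.includeLeftRingHom) := (pullbackSpecIso_hom_fst k R A).symm
  refine Eq.trans ?_ (congrArg (· ≫ _) e).symm
  refine (Category.assoc _ _ _).trans (Eq.trans ?_ (Category.assoc _ _ _).symm)
  refine congrArg _ ?_
  rw [← Spec.map_comp, ← Spec.map_comp]
  refine congrArg Spec.map ?_
  refine CommRingCat.hom_ext (RingHom.ext fun q => ?_)
  exact q.2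

variable [PerfectField k] [_root_.IsReduced A]

/-- The affine pieces of a base change of a map which is locally the affine quotient. -/
theorem exists_piece (hG : HopfRep.IsLinearlyReductive k A) {Xb Yb : Over (Spec (CommRingCat.of k))}
    {ab : AlgGrp.Action (CoactBr.sp k A) Xb} {φb : Xb ⟶ Yb} {ιX : CoactBr.sp k R ⟶ Xb}
    {ιY : CoactBr.sp k (GLin.invariants k A R) ⟶ Yb} [IsOpenImmersion ιY.left]
    (hι : IsPullback ιX (quotMap k A R) φb ιY)
    (hιact : (CoactBr.action k A R).act ≫ ιX = (CoactBr.sp k A ◁ ιX) ≫ ab.act)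
    {X' Y' : Over (Spec (CommRingCat.of k))} {pr : X' ⟶ Xb} {φ' : X' ⟶ Y'} {g : Y' ⟶ Yb}
    (hpb : IsPullback pr φ' φb g) (a' : AlgGrp.Action (CoactBr.sp k A) X')
    (ha : a'.act ≫ pr = (CoactBr.sp k A ◁ pr) ≫ ab.act) (hi : GIT.IsInvariant a' φ')
    (V : Y'.left.Opens) (hV : IsAffineOpen V) (hle : V ≤ g.left ⁻¹ᵁ ιY.left.opensRange) :
    Function.Injective (φ'.left.app V) ∧
      (∀ f, GIT.IsInvSection a' φ' V f → f ∈ Set.range (φ'.left.app V)) ∧
      (∀ W : Set X'.left, IsClosed W → a'.act.left.base '' ((snd _ X').left.base ⁻¹' W) ⊆ W →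
        ∃ Z : Set Y'.left, IsClosed Z ∧ φ'.left.base '' W ∩ V = Z ∩ V) ∧
      (∀ (J : Type u) (W : J → Set X'.left),
        (∀ i, IsClosed (W i) ∧ a'.act.left.base '' ((snd _ X').left.base ⁻¹' W i) ⊆ W i) →
        ∀ y ∈ V, (∀ i, y ∈ φ'.left.base '' W i) → y ∈ φ'.left.base '' (⋂ i, W i)) := by
  -- the rings
  let C := GLin.invariants k A R
  let C' : Type u := Γ(Y'.left, V)
  letI algk : Algebra k C' := (Spec.preimage (hV.fromSpec ≫ Y'.hom)).hom.toAlgebra
  have hk : Spec.map (CommRingCat.ofHom (algebraMap k C')) = hV.fromSpec ≫ Y'.hom := Spec.map_preimage _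
  let j : CoactBr.sp k C' ⟶ Y' := Over.homMk hV.fromSpec hk.symm
  have hjr : Set.range (j ≫ g).left.base ⊆ Set.range ιY.left.base := by
    rintro _ ⟨z, rfl⟩
    exact hle (hV.range_fromSpec.le ⟨z, rfl⟩)
  let jg : CoactBr.sp k C' ⟶ CoactBr.sp k C := Over.homMk (IsOpenImmersion.lift ιY.left (j ≫ g).left hjr) (by
    rw [← Over.w ιY, ← Category.assoc, IsOpenImmersion.lift_fac, Over.w])
  have hjg : jg ≫ ιY = j ≫ g := Over.OverMorphism.ext (IsOpenImmersion.lift_fac _ _ _)
  obtain ⟨θ, hθ⟩ := (algSpec (CommRingCat.of k)).map_surjective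
    (X := op (CommAlgCat.of k C')) (Y := op (CommAlgCat.of k C)) jg
  let θ' : C →ₐ[k] C' := θ.unop.hom
  have hθ' : CoactBr.pt θ' = jg := hθ
  letI algC : Algebra C C' := θ'.toAlgebra
  haveI : IsScalarTower k C C' := IsScalarTower.of_algebraMap_eq fun c => (θ'.commutes c).symm
  let R' : Type u := C' ⊗[C] R
  letI := bcComod k A R C'
  haveI := bc_isCoactAlg (k := k) (A := A) (R := R) C'
  let iR : R →ₐ[k] R' := (Algebra.TensorProduct.includeRight (R := C) (A := C') (B := R)).restrictScalars k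
  let iC : C' →ₐ[k] R' := IsScalarTower.toAlgHom k C' R'
  -- the cartesian square
  have hw₀ : CoactBr.pt iR ≫ quotMap k A R = CoactBr.pt iC ≫ CoactBr.pt θ' := by
    rw [quotMap, ← CoactBr.pt_comp, ← CoactBr.pt_comp]
    congr 1
    refine AlgHom.ext fun c => ?_
    change (1 : C') ⊗ₜ[C] (c : R) = θ' c ⊗ₜ[C] (1 : R)
    rw [show θ' c = c • (1 : C') by rw [Algebra.smul_def, _root_.mul_one]; rfl,
      TensorProduct.smul_tmul, Subalgebra.smul_def, smul_eq_mul, _root_.mul_one]
  have hsq₀ : IsPullback (CoactBr.pt iR) (CoactBr.pt iC) (quotMap k A R) (CoactBr.pt θ') :=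
    Groth.L18.GITQ.isPullback_over hw₀
      (isPullback_SpecMap_of_isPushout _ _ _ _ (CommRingCat.isPushout_tensorProduct C C' R).flip)
  have hw : (CoactBr.pt iR ≫ ιX) ≫ φb = (CoactBr.pt iC ≫ j) ≫ g := by
    rw [Category.assoc, hι.w, ← Category.assoc, hw₀, hθ', Category.assoc, hjg, Category.assoc]
  let l : CoactBr.sp k R' ⟶ X' := hpb.lift _ _ hw
  have hl1 : l ≫ pr = CoactBr.pt iR ≫ ιX := hpb.lift_fst _ _ _
  have hl2 : l ≫ φ' = CoactBr.pt iC ≫ j := hpb.lift_snd _ _ _
  have hsq : IsPullback l (CoactBr.pt iC) φ' j := IsPullback.of_right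
    (by rw [hl1, ← hjg, ← hθ']; exact hsq₀.paste_horiz hι) hl2 hpb
  have hsq' : IsPullback l.left (CoactBr.pt iC).left φ'.left hV.fromSpec := hsq.map (Over.forget _)
  haveI : IsOpenImmersion l.left := MorphismProperty.of_isPullback (P := @IsOpenImmersion) hsq'.flip inferInstance
  let P : X'.left.Opens := φ'.left ⁻¹ᵁ V
  have hrange : Set.range l.left.base = (P : Set X'.left) := by
    have e : l.left = hsq'.isoPullback.hom ≫ Limits.pullback.fst φ'.left hV.fromSpec :=
      hsq'.isoPullback_hom_fst.symm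
    rw [e, Scheme.Hom.comp_base, TopCat.coe_comp, Set.range_comp,
      (hsq'.isoPullback.hom.surjective).range_eq, Set.image_univ, Scheme.Pullback.range_fst, hV.range_fromSpec]
    rfl
  have hPim : P = l.left ''ᵁ ⊤ := by
    apply Opens.ext
    rw [Scheme.Hom.coe_image, Opens.coe_top, Set.image_univ, hrange]
  have hPle : ⊤ ≤ l.left ⁻¹ᵁ P := fun z _ => by
    change l.left.base z ∈ (P : Set X'.left)
    rw [← hrange]
    exact ⟨z, rfl⟩
  -- equivariance
  have hact : (CoactBr.action k A R').act ≫ l = (CoactBr.sp k A ◁ l) ≫ a'.act := by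
    refine hpb.hom_ext ?_ ?_
    · rw [Category.assoc, Category.assoc, hl1, ha, ← MonoidalCategory.whiskerLeft_comp_assoc, hl1,
        MonoidalCategory.whiskerLeft_comp_assoc, ← hιact, ← Category.assoc, ← Category.assoc]
      refine congrArg (· ≫ ιX) ?_
      refine act_pt iR (AlgHom.ext fun r => ?_)
      change bcCoact k A R C' ((1 : C') ⊗ₜ r) = _
      rw [bcCoact_tmul, ← Algebra.TensorProduct.one_def, ← Algebra.TensorProduct.one_def, _root_.mul_one]
      rfl
    · rw [Category.assoc, Category.assoc, hi, whiskerLeft_snd_assoc, hl2, ← Category.assoc, ← Category.assoc]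
      refine congrArg (· ≫ j) ?_
      rw [CoactBr.action_act_comp_eq_iff]
      apply Over.OverMorphism.ext
      rw [Over.comp_left, Over.comp_left, CoactBr.pt_left, CoactBr.ract_left]
      have e : (fst (CoactBr.sp k R') (CoactBr.sp k A)).left = (pullbackSpecIso k R' A).hom ≫
          Spec.map (CommRingCat.ofHom Algebra.TensorProduct.includeLeftRingHom) :=
        (pullbackSpecIso_hom_fst k R' A).symm
      refine Eq.trans ?_ (congrArg (· ≫ _) e).symm
      refine (Category.assoc _ _ _).trans (Eq.trans ?_ (Category.assoc _ _ _).symm)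
      refine congrArg _ ?_
      rw [← Spec.map_comp, ← Spec.map_comp]
      refine congrArg Spec.map ?_
      refine CommRingCat.hom_ext (RingHom.ext fun q => ?_)
      exact bcCoact_left C' q
  have hfix := bc_isInvRing (k := k) (A := A) (R := R) (C' := C') hG
  have hinjC := bc_injective (k := k) (A := A) (R := R) (C' := C') hG
  -- sections
  have hsec : ∀ s : C', l.left.appLE P ⊤ hPle (φ'.left.app V s) =
      (Scheme.ΓSpecIso (CommRingCat.of R')).inv (algebraMap C' R' s) := by
    intro s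
    have e1 : φ'.left.app V = φ'.left.appLE V P le_rfl := (Scheme.Hom.appLE_eq_app (f := φ'.left)).symm
    rw [e1, ← CommRingCat.comp_apply, Scheme.Hom.appLE_comp_appLE]
    have e2 : ⊤ ≤ hV.fromSpec ⁻¹ᵁ V := hV.fromSpec_preimage_self.ge
    have e3 : ⊤ ≤ (CoactBr.pt iC).left ⁻¹ᵁ (⊤ : (CoactBr.sp k C').left.Opens) := le_top
    refine (congrArg (fun q : Γ(Y'.left, V) ⟶ _ => q s) (Groth.L18.GITQ.appLE_congr_mor
      (congrArg CommaMorphism.left hl2 : l.left ≫ φ'.left = (CoactBr.pt iC).left ≫ hV.fromSpec) V ⊤ _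
      (e3.trans ((CoactBr.pt iC).left.preimage_mono e2)))).trans ?_
    refine (congrArg (fun q : Γ(Y'.left, V) ⟶ _ => q s)
      (Scheme.Hom.appLE_comp_appLE (CoactBr.pt iC).left hV.fromSpec V ⊤ ⊤ e2 e3).symm).trans ?_
    rw [CommRingCat.comp_apply]
    have e4 : hV.fromSpec.appLE V ⊤ e2 = (Scheme.ΓSpecIso Γ(Y'.left, V)).inv := by
      rw [Scheme.Hom.appLE, hV.fromSpec_app_self, Category.assoc, ← Functor.map_comp]
      refine (congrArg _ ((Spec Γ(Y'.left, V)).presheaf.map_id (op ⊤))).trans (Category.comp_id _)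
    rw [e4]
    have n := congrArg (fun z => z.hom s) (Scheme.ΓSpecIso_inv_naturality (CommRingCat.ofHom iC.toRingHom))
    simp only [CommRingCat.hom_comp, RingHom.comp_apply] at n
    refine Eq.trans ?_ n.symm
    rw [Scheme.Hom.appTop, ← Scheme.Hom.appLE_eq_app]
    rfl
  have hlbij := bijective_appLE l.left hPim hPle
  refine ⟨fun s t e => hinjC ?_, fun f hf => ?_, ?_, ?_⟩
  · have := congrArg (l.left.appLE P ⊤ hPle) e
    rw [hsec, hsec] at this
    exact (ConcreteCategory.bijective_of_isIso (Scheme.ΓSpecIso (CommRingCat.of R')).inv).1 this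
  · let r : R' := (Scheme.ΓSpecIso (CommRingCat.of R')).hom (l.left.appLE P ⊤ hPle f)
    have hr : (Scheme.ΓSpecIso (CommRingCat.of R')).inv r = l.left.appLE P ⊤ hPle f :=
      (Scheme.ΓSpecIso (CommRingCat.of R')).hom_inv_id_apply _
    let Q : (CoactBr.sp k A ⊗ X').left.Opens :=
      a'.act.left ⁻¹ᵁ P ⊓ (snd (CoactBr.sp k A) X').left ⁻¹ᵁ P
    have esnd : (snd (CoactBr.sp k A) (CoactBr.sp k R')).left ≫ l.left =
        (CoactBr.sp k A ◁ l).left ≫ (snd (CoactBr.sp k A) X').left :=
      congrArg CommaMorphism.left (whiskerLeft_snd (CoactBr.sp k A) l).symm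
    have eact : (CoactBr.action k A R').act.left ≫ l.left = (CoactBr.sp k A ◁ l).left ≫ a'.act.left :=
      congrArg CommaMorphism.left hact
    have hQ : (⊤ : (CoactBr.sp k A ⊗ CoactBr.sp k R').left.Opens) ≤ (CoactBr.sp k A ◁ l).left ⁻¹ᵁ Q := fun z _ => by
      refine ⟨?_, ?_⟩
      · change ((CoactBr.sp k A ◁ l).left ≫ a'.act.left).base z ∈ P
        rw [← eact]
        exact hPle (Opens.mem_top _)
      · change ((CoactBr.sp k A ◁ l).left ≫ (snd (CoactBr.sp k A) X').left).base z ∈ P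
        rw [← esnd]
        exact hPle (Opens.mem_top _)
    have conv : ∀ (m : (CoactBr.sp k A ⊗ CoactBr.sp k R').left ⟶ (CoactBr.sp k R').left)
        (n : (CoactBr.sp k A ⊗ X').left ⟶ X'.left) (hn : Q ≤ n ⁻¹ᵁ P)
        (_ : m ≫ l.left = (CoactBr.sp k A ◁ l).left ≫ n),
        m.appTop (l.left.appLE P ⊤ hPle f) = (CoactBr.sp k A ◁ l).left.appLE Q ⊤ hQ (n.appLE P Q hn f) := by
      intro m n hn e
      rw [Scheme.Hom.appTop, ← Scheme.Hom.appLE_eq_app (f := m), ← CommRingCat.comp_apply, ← CommRingCat.comp_apply]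
      refine congrArg (fun q : Γ(X'.left, P) ⟶ _ => q f) ?_
      exact (Scheme.Hom.appLE_comp_appLE _ _ _ _ _ _ _).trans
        ((Groth.L18.GITQ.appLE_congr_mor e _ _ _ _).trans (Scheme.Hom.appLE_comp_appLE _ _ _ _ _ _ _).symm)
    have hrfix : r ∈ HopfRep.fixedPts k A R' := by
      refine mem_fixedPts_of_appTop r ?_
      rw [hr, conv _ _ inf_le_left eact, conv _ _ inf_le_right esnd]
      exact congrArg _ hf
    obtain ⟨s, hs⟩ := (hfix r).1 hrfix
    exact ⟨s, hlbij.1 (by rw [hsec, hs, hr])⟩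
  all_goals
    have hinv : ∀ W : Set X'.left, a'.act.left.base '' ((snd _ X').left.base ⁻¹' W) ⊆ W →
        (CoactBr.action k A R').act.left.base ''
          ((snd (CoactBr.sp k A) (CoactBr.sp k R')).left.base ⁻¹' (l.left.base ⁻¹' W)) ⊆ l.left.base ⁻¹' W := by
      rintro W hW _ ⟨p, hp, rfl⟩
      change ((CoactBr.action k A R').act.left ≫ l.left).base p ∈ W
      rw [← Over.comp_left, hact]
      refine hW ⟨(CoactBr.sp k A ◁ l).left.base p, ?_, rfl⟩
      change ((CoactBr.sp k A ◁ l).left ≫ (snd (CoactBr.sp k A) X').left).base p ∈ W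
      rw [← Over.comp_left, whiskerLeft_snd]
      exact hp
    have hstab : ∀ W : Set X'.left, IsClosed W → a'.act.left.base '' ((snd _ X').left.base ⁻¹' W) ⊆ W →
        ∃ I : Ideal R', HopfRep.IsSubcomod (k := k) (A := A) (I.restrictScalars k) ∧
          (PrimeSpectrum.zeroLocus (I : Set R') : Set (PrimeSpectrum R')) = l.left.base ⁻¹' W := by
      intro W hW hWi
      refine ⟨PrimeSpectrum.vanishingIdeal (l.left.base ⁻¹' W : Set (PrimeSpectrum R')),
        isSubcomod_vanishingIdeal _ (hW.preimage l.left.continuous) (image_ract (hinv W hWi)), ?_⟩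
      rw [PrimeSpectrum.zeroLocus_vanishingIdeal_eq_closure]
      exact (hW.preimage l.left.continuous).closure_eq
    have hfl : ∀ z : PrimeSpectrum R', φ'.left.base (l.left.base z) =
        hV.fromSpec.base (PrimeSpectrum.comap (algebraMap C' R') z) := by
      intro z
      change (l.left ≫ φ'.left).base z = _
      rw [← Over.comp_left, hl2]
      rfl
  · intro W hW hWi
    obtain ⟨I, hI, eI⟩ := hstab W hW hWi
    have hclosed : IsClosed (PrimeSpectrum.comap (algebraMap C' R') '' (l.left.base ⁻¹' W)) := by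
      rw [← eI, image_zeroLocus hfix hinjC hG hI]
      exact PrimeSpectrum.isClosed_zeroLocus _
    obtain ⟨Z, hZ, eZ⟩ := hV.fromSpec.isOpenEmbedding.isInducing.isClosed_iff.1 hclosed
    refine ⟨Z, hZ, Set.ext fun y => ⟨?_, ?_⟩⟩
    · rintro ⟨⟨x, hx, rfl⟩, hy⟩
      obtain ⟨z, rfl⟩ := (hrange.symm ▸ hy : x ∈ Set.range l.left.base)
      refine ⟨?_, hy⟩
      rw [hfl]
      exact eZ.ge ⟨z, hx, rfl⟩
    · rintro ⟨hyZ, hy⟩
      obtain ⟨y₀, rfl⟩ := (hV.range_fromSpec.symm ▸ hy : y ∈ Set.range hV.fromSpec.base)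
      obtain ⟨z, hz, rfl⟩ := eZ.le hyZ
      exact ⟨⟨l.left.base z, hz, hfl z⟩, hy⟩
  · intro J W hW y hy hyW
    obtain ⟨y₀, rfl⟩ := (hV.range_fromSpec.symm ▸ hy : y ∈ Set.range hV.fromSpec.base)
    choose I hI eI using fun i => hstab (W i) (hW i).1 (hW i).2
    have hmem : ∀ i, y₀ ∈ PrimeSpectrum.comap (algebraMap C' R') '' PrimeSpectrum.zeroLocus (I i : Set R') := by
      intro i
      obtain ⟨x, hx, e⟩ := hyW i
      obtain ⟨z, rfl⟩ := (hrange.symm ▸ (show φ'.left.base x ∈ V from e ▸ hy) : x ∈ Set.range l.left.base)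
      refine ⟨z, (eI i).ge hx, hV.fromSpec.isOpenEmbedding.injective ?_⟩
      rw [← hfl, e]
    obtain ⟨z, hz, rfl⟩ := (image_iInter_zeroLocus hfix hinjC hG I hI).ge (Set.mem_iInter.2 hmem)
    exact ⟨l.left.base z, Set.mem_iInter.2 fun i => (eI i).le (Set.mem_iInter.1 hz i), hfl z⟩

variable (k A R) in
/-- **The affine quotient by a linearly reductive group is a universal categorical quotient.** -/
theorem isUnivCatQuot_quotMap (hG : HopfRep.IsLinearlyReductive k A) :
    GIT.IsUnivCatQuot (CoactBr.action k A R) (quotMap k A R) ∧ GIT.IsUnivSubmersive (quotMap k A R).left := by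
  haveI : IsOpenImmersion (Over.Hom.left (𝟙 (CoactBr.sp k (GLin.invariants k A R)))) :=
    inferInstanceAs (IsOpenImmersion (𝟙 _))
  have key : ∀ ⦃X' Y' : Over (Spec (CommRingCat.of k))⦄ (pr : X' ⟶ CoactBr.sp k R) (φ' : X' ⟶ Y')
      (g : Y' ⟶ CoactBr.sp k (GLin.invariants k A R)), IsPullback pr φ' (quotMap k A R) g →
      ∀ a' : AlgGrp.Action (CoactBr.sp k A) X', a'.act ≫ pr = (CoactBr.sp k A ◁ pr) ≫ (CoactBr.action k A R).act →
      GIT.IsInvariant a' φ' → GIT.IsCatQuot a' φ' ∧ Topology.IsQuotientMap φ'.left.base :=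
    fun X' Y' pr φ' g hpb a' ha hi =>
      have hp := fun V hV => exists_piece (ιX := 𝟙 (CoactBr.sp k R)) (ιY := 𝟙 _) (hG := hG)
        IsPullback.of_id_fst (by simp) hpb a' ha hi V hV (fun z _ => ⟨_, rfl⟩)
      isCatQuot_of_basis a' φ' hi IsAffineOpen
        (fun y U hy => exists_isAffineOpen_mem_and_subset hy)
        (fun V hV => (hp V hV).1) (fun V hV => (hp V hV).2.1) (fun V hV => (hp V hV).2.2.1)
        (fun V hV => (hp V hV).2.2.2)
  refine ⟨⟨(key (𝟙 _) _ (𝟙 _) IsPullback.of_id_fst _ (by simp) quotMap_invariant).1,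
    fun X' Y' pr φ' g _ hpb a' ha hi => (key pr φ' g hpb a' ha hi).1⟩, ?_⟩
  intro X₁ Y₁ i₁ i₂ φ₁ hpb₁
  let Y' : Over (Spec (CommRingCat.of k)) := Over.mk (i₂ ≫ (CoactBr.sp k (GLin.invariants k A R)).hom)
  let g : Y' ⟶ CoactBr.sp k (GLin.invariants k A R) := Over.homMk i₂ rfl
  let X' : Over (Spec (CommRingCat.of k)) := Over.mk (i₁ ≫ (CoactBr.sp k R).hom)
  let pr : X' ⟶ CoactBr.sp k R := Over.homMk i₁ rfl
  let φ' : X' ⟶ Y' := Over.homMk φ₁ (by
    change φ₁ ≫ i₂ ≫ _ = i₁ ≫ _
    rw [← Category.assoc, hpb₁.w, Category.assoc, Over.w (quotMap k A R)])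
  have hpb : IsPullback pr φ' (quotMap k A R) g :=
    Groth.L18.GITQ.isPullback_over (Over.OverMorphism.ext hpb₁.w.symm) hpb₁.flip
  obtain ⟨a', ha, hi⟩ := Groth.L18.GITQ.exists_baseChange_action (CoactBr.action k A R) quotMap_invariant hpb
  exact (key pr φ' g hpb a' ha hi).2

end Ract

end Groth.L14.GITAff
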