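import Groth.Agent.L14.GITAff.Bridge
import Groth.Agent.L25.GeomRed
import Groth.Agent.L08.GITSep
import Mathlib.AlgebraicGeometry.Scheme
import Mathlib.RingTheory.Spectrum.Prime.Topology

/-!
# Invariant functions separate closed invariant subsets
-/

set_option autoImplicit false
set_option linter.style.haveILetI false
set_option backward.isDefEq.respectTransparency false
set_option backward.isDefEq.respectTransparency.types false
universe u

open CategoryTheory CategoryTheory.Limits MonoidalCategory CartesianMonoidalCategory MonObj GrpObj AlgebraicGeometry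
open Opposite
open scoped TensorProduct

noncomputable section

namespace Groth.L14.GITAff

variable {k : Type u} [Field k] {A R : Type u} [CommRing A] [HopfAlgebra k A] [CommRing R] [Algebra k R]
  [HopfRep.Comod k A R] [GLin.IsCoactAlg k A R]

/-- The ideal of a closed invariant subset is a subcomodule. -/
theorem isSubcomod_vanishingIdeal [PerfectField k] [_root_.IsReduced A] (W : Set (PrimeSpectrum R)) (hW : IsClosed W)
    (hi : (CoactBr.ract k A R).left.base '' ((fst (CoactBr.sp k R) (CoactBr.sp k A)).left.base ⁻¹' W) ⊆ W) :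
    HopfRep.IsSubcomod (k := k) (A := A) ((PrimeSpectrum.vanishingIdeal W).restrictScalars k) := by
  intro f hf
  set I := PrimeSpectrum.vanishingIdeal W with hI
  let qm : R ⊗[k] A →ₐ[k] (R ⧸ I) ⊗[k] A := Algebra.TensorProduct.map (Ideal.Quotient.mkₐ k I) (AlgHom.id k A)
  haveI : _root_.IsReduced (R ⧸ I) := by
    rw [← Ideal.isRadical_iff_quotient_reduced, hI]
    exact PrimeSpectrum.isRadical_vanishingIdeal W
  haveI : _root_.IsReduced ((R ⧸ I) ⊗[k] A) := Groth.L25.GeomRed.isReduced_tensorProduct
  have h0 : qm (GLin.coactAlgHom k A R f) = 0 := by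
    refine IsReduced.eq_zero _ ?_
    rw [← mem_nilradical, nilradical_eq_sInf, Ideal.mem_sInf]
    intro Q hQ
    haveI : Q.IsPrime := hQ
    let Q' : PrimeSpectrum (R ⊗[k] A) := PrimeSpectrum.comap qm.toRingHom ⟨Q, hQ⟩
    let p : ↥(CoactBr.sp k R ⊗ CoactBr.sp k A).left := (pullbackSpecIso k R A).inv.base Q'
    have hp1 : (fst (CoactBr.sp k R) (CoactBr.sp k A)).left.base p ∈ W := by
      rw [← hW.closure_eq, ← PrimeSpectrum.zeroLocus_vanishingIdeal_eq_closure]
      intro x hx
      have e : (fst (CoactBr.sp k R) (CoactBr.sp k A)).left.base p =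
          PrimeSpectrum.comap Algebra.TensorProduct.includeLeftRingHom Q' := by
        change ((pullbackSpecIso k R A).inv ≫ pullback.fst _ _).base Q' = _
        rw [pullbackSpecIso_inv_fst]
        rfl
      rw [e]
      change qm (x ⊗ₜ[k] (1 : A)) ∈ Q
      rw [Algebra.TensorProduct.map_tmul, Ideal.Quotient.mkₐ_eq_mk, Ideal.Quotient.eq_zero_iff_mem.2 hx,
        TensorProduct.zero_tmul]
      exact zero_mem _
    have hp2 : (CoactBr.ract k A R).left.base p ∈ W := hi ⟨p, hp1, rfl⟩
    have e : (CoactBr.ract k A R).left.base p = PrimeSpectrum.comap (GLin.coactAlgHom k A R).toRingHom Q' := by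
      change ((pullbackSpecIso k R A).inv ≫ (CoactBr.ract k A R).left).base Q' = _
      rw [CoactBr.ract_left, Iso.inv_hom_id_assoc]
      rfl
    rw [e] at hp2
    exact (PrimeSpectrum.mem_vanishingIdeal _ _).1 hf _ hp2
  have hex := rTensor_exact (Q := A) (f := (I.restrictScalars k).subtype)
    (g := (Ideal.Quotient.mkₐ k I).toLinearMap)
    (LinearMap.exact_iff.2 (by
      ext x; simp [Ideal.Quotient.eq_zero_iff_mem]))
    Ideal.Quotient.mk_surjective
  refine (hex _).1 ?_
  exact h0

variable (k A R) in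
/-- The function attached to an element. -/
def fnMor (f : R) : CoactBr.sp k R ⟶ CoactBr.sp k (Polynomial k) := CoactBr.pt (Polynomial.aeval f)

theorem act_fnMor {f : R} (hf : f ∈ HopfRep.fixedPts k A R) :
    (CoactBr.action k A R).act ≫ fnMor k R f = snd _ _ ≫ fnMor k R f := by
  rw [CoactBr.action_act_comp_eq_iff]
  apply Over.OverMorphism.ext
  rw [Over.comp_left, Over.comp_left, fnMor, CoactBr.pt_left, CoactBr.ract_left]
  have e : (fst (CoactBr.sp k R) (CoactBr.sp k A)).left = (pullbackSpecIso k R A).hom ≫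
      Spec.map (CommRingCat.ofHom Algebra.TensorProduct.includeLeftRingHom) := (pullbackSpecIso_hom_fst k R A).symm
  refine Eq.trans ?_ (congrArg (· ≫ _) e).symm
  refine (Category.assoc _ _ _).trans (Eq.trans ?_ (Category.assoc _ _ _).symm)
  refine congrArg _ ?_
  rw [← Spec.map_comp, ← Spec.map_comp]
  refine congrArg Spec.map ?_
  refine CommRingCat.hom_ext ?_
  refine RingHom.ext fun q => ?_
  change GLin.coactAlgHom k A R (Polynomial.aeval f q) = (Algebra.TensorProduct.includeLeft (S := k)) (Polynomial.aeval f q)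
  rw [← Polynomial.aeval_algHom_apply, ← Polynomial.aeval_algHom_apply]
  rw [show GLin.coactAlgHom k A R f = Algebra.TensorProduct.includeLeft (S := k) f from hf]

theorem image_ract {W : Set (PrimeSpectrum R)}
    (h : (CoactBr.action k A R).act.left.base '' ((snd (CoactBr.sp k A) (CoactBr.sp k R)).left.base ⁻¹' W) ⊆ W) :
    (CoactBr.ract k A R).left.base '' ((fst (CoactBr.sp k R) (CoactBr.sp k A)).left.base ⁻¹' W) ⊆ W := by
  let σ : CoactBr.sp k R ⊗ CoactBr.sp k A ⟶ CoactBr.sp k A ⊗ CoactBr.sp k R :=
    lift (snd _ _)⁻¹ (fst _ _)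
  have h1 : σ ≫ (CoactBr.action k A R).act = CoactBr.ract k A R := by
    rw [CoactBr.lift_action_act, _root_.inv_inv, lift_fst_snd, Category.id_comp]
  have h2 : σ ≫ snd _ _ = fst _ _ := lift_snd _ _
  rintro _ ⟨p, hp, rfl⟩
  refine h ⟨σ.left.base p, ?_, ?_⟩
  · change (σ.left ≫ (snd (CoactBr.sp k A) (CoactBr.sp k R)).left).base p ∈ W
    rw [← Over.comp_left, h2]
    exact hp
  · change (σ.left ≫ (CoactBr.action k A R).act.left).base p = _
    rw [← Over.comp_left, h1]

end Groth.L14.GITAff
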