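import Groth.Agent.L14.GITAff.Pieces
import Groth.Agent.L14.GITAff.Model

/-!
# The quotient of an affine scheme by a reductive group in characteristic zero
-/

set_option autoImplicit false
set_option linter.style.haveILetI false
set_option backward.isDefEq.respectTransparency false
set_option backward.isDefEq.respectTransparency.types false
universe u

open CategoryTheory MonoidalCategory CartesianMonoidalCategory MonObj GrpObj AlgebraicGeometry TopologicalSpace
open scoped TensorProduct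

noncomputable section

namespace Groth.L14.GITAff

open Groth.L25.Bridge (P)

variable {S : Scheme.{u}} {G G' X X' Y : Over S} [GrpObj G] [GrpObj G']

/-- Pull back of an action along a homomorphism. -/
def pullAct (ρ : G ⟶ G') [IsMonHom ρ] (a : AlgGrp.Action G' X) : AlgGrp.Action G X where
  act := (ρ ▷ X) ≫ a.act
  one_act := by rw [← comp_whiskerRight_assoc, IsMonHom.one_hom, a.one_act]
  mul_act := by
    rw [← comp_whiskerRight_assoc, IsMonHom.mul_hom, comp_whiskerRight_assoc, a.mul_act]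
    simp only [tensorHom_def, comp_whiskerRight, Category.assoc, whisker_assoc,
      associator_naturality_left_assoc, whiskerLeft_comp, Iso.inv_hom_id_assoc]
    rw [whisker_exchange_assoc, whisker_exchange_assoc]

/-- Equivariant data: isomorphisms of groups and spaces. -/
structure EqvIso (a : AlgGrp.Action G X) (a' : AlgGrp.Action G' X') where
  e : Grp.mk G ≅ Grp.mk G'
  f : X ≅ X'
  compat : a.act ≫ f.hom = (e.hom.hom.hom ⊗ₘ f.hom) ≫ a'.act

variable {a : AlgGrp.Action G X} {a' : AlgGrp.Action G' X'} (E : EqvIso a a')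

theorem EqvIso.hom_inv : E.e.hom.hom.hom ≫ E.e.inv.hom.hom = 𝟙 G := congrArg (fun z => z.hom.hom) E.e.hom_inv_id

theorem EqvIso.inv_hom : E.e.inv.hom.hom ≫ E.e.hom.hom.hom = 𝟙 G' := congrArg (fun z => z.hom.hom) E.e.inv_hom_id

theorem EqvIso.compat' : a'.act ≫ E.f.inv = (E.e.inv.hom.hom ⊗ₘ E.f.inv) ≫ a.act := by
  rw [Iso.comp_inv_eq, Category.assoc, E.compat, tensorHom_comp_tensorHom_assoc, E.inv_hom, E.f.inv_hom_id,
    id_tensorHom_id, Category.id_comp]

theorem EqvIso.invariant_iff {Z : Over S} (φ : X' ⟶ Z) :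
    GIT.IsInvariant a (E.f.hom ≫ φ) ↔ GIT.IsInvariant a' φ := by
  constructor
  · intro h
    have h' := congrArg ((E.e.inv.hom.hom ⊗ₘ E.f.inv) ≫ ·) h
    simp only [← Category.assoc] at h'
    rw [← E.compat', Category.assoc a'.act, E.f.inv_hom_id, Category.comp_id, tensorHom_snd,
      Category.assoc (snd G' X'), E.f.inv_hom_id, Category.comp_id] at h'
    exact h'
  · intro h
    rw [GIT.IsInvariant, ← Category.assoc, E.compat, Category.assoc, h, ← Category.assoc, tensorHom_snd,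
      Category.assoc]

theorem EqvIso.isCatQuot {φ : X' ⟶ Y} (h : GIT.IsCatQuot a' φ) : GIT.IsCatQuot a (E.f.hom ≫ φ) := by
  refine ⟨(E.invariant_iff φ).2 h.1, fun Z ψ hψ => ?_⟩
  obtain ⟨χ, hχ, hu⟩ := h.2 Z (E.f.inv ≫ ψ) ((E.invariant_iff _).1 (by rwa [E.f.hom_inv_id_assoc]))
  refine ⟨χ, ?_, fun χ' h' => hu χ' ?_⟩
  · change (E.f.hom ≫ φ) ≫ χ = ψ
    rw [Category.assoc, hχ, E.f.hom_inv_id_assoc]
  · change φ ≫ χ' = E.f.inv ≫ ψ
    rw [← h']
    simp

theorem EqvIso.isUnivCatQuot {φ : X' ⟶ Y} (h : GIT.IsUnivCatQuot a' φ) :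
    GIT.IsUnivCatQuot a (E.f.hom ≫ φ) := by
  refine ⟨E.isCatQuot h.1, fun X₁ Y₁ pr φ₁ g hg hpb a₁ ha₁ hi₁ => ?_⟩
  haveI : IsMonHom E.e.inv.hom.hom := E.e.inv.hom.isMonHom_hom
  haveI : IsIso E.e.inv.hom.hom := ⟨E.e.hom.hom.hom, E.inv_hom, E.hom_inv⟩
  let a₂ : AlgGrp.Action G' X₁ := pullAct E.e.inv.hom.hom a₁
  have ha₂ : a₂.act ≫ pr ≫ E.f.hom = (G' ◁ (pr ≫ E.f.hom)) ≫ a'.act := by
    change ((E.e.inv.hom.hom ▷ X₁) ≫ a₁.act) ≫ pr ≫ E.f.hom = _
    rw [Category.assoc, reassoc_of% ha₁, E.compat, ← Category.assoc, ← Category.assoc]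
    refine congrArg (· ≫ a'.act) ?_
    rw [← tensorHom_id, ← id_tensorHom, ← id_tensorHom, tensorHom_comp_tensorHom, tensorHom_comp_tensorHom,
      Category.comp_id, Category.id_comp, E.inv_hom]
  have hi₂ : GIT.IsInvariant a₂ φ₁ := by
    change ((E.e.inv.hom.hom ▷ X₁) ≫ a₁.act) ≫ φ₁ = _
    rw [Category.assoc, hi₁, whiskerRight_snd_assoc]
  have hpb₂ : IsPullback (pr ≫ E.f.hom) φ₁ φ g := by
    simpa using hpb.paste_horiz (IsPullback.of_horiz_isIso
      (fst := E.f.hom) (snd := E.f.hom ≫ φ) (f := φ) (g := 𝟙 Y) ⟨(Category.comp_id _).symm⟩)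
  have hc := h.2 (pr ≫ E.f.hom) φ₁ g hg hpb₂ a₂ ha₂ hi₂
  refine ⟨hi₁, fun Z ψ hψ => hc.2 Z ψ ?_⟩
  change ((E.e.inv.hom.hom ▷ X₁) ≫ a₁.act) ≫ ψ = _
  rw [Category.assoc, hψ, whiskerRight_snd_assoc]

theorem EqvIso.isUnivSubmersive {φ : X' ⟶ Y} (h : GIT.IsUnivSubmersive φ.left) :
    GIT.IsUnivSubmersive (E.f.hom ≫ φ).left := by
  haveI : IsIso E.f.hom.left := inferInstanceAs (IsIso ((Over.forget _).map E.f.hom))
  rw [Over.comp_left]
  exact (MorphismProperty.cancel_left_of_respectsIso (MorphismProperty.universally _) E.f.hom.left φ.left).2 h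

/-- Invariant global sections. -/
theorem isInvSection_top_iff (φ : X ⟶ Y) (f : Γ(X.left, ⊤)) :
    GIT.IsInvSection a φ ⊤ f ↔ a.act.left.appTop f = (snd G X).left.appTop f := by
  have key : ∀ (Q : (G ⊗ X).left.Opens) (_ : Q = ⊤) (e : Q ≤ a.act.left ⁻¹ᵁ ⊤) (e' : Q ≤ (snd G X).left ⁻¹ᵁ ⊤),
      a.act.left.appLE ⊤ Q e f = (snd G X).left.appLE ⊤ Q e' f ↔ a.act.left.appTop f = (snd G X).left.appTop f := by
    rintro Q rfl e e'
    rw [Scheme.Hom.appTop, Scheme.Hom.appTop, ← Scheme.Hom.appLE_eq_app, ← Scheme.Hom.appLE_eq_app]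
    rfl
  exact key _ (top_le_iff.1 (le_inf le_top le_top)) _ _

/-- The affine quotient. -/
theorem exists_univCatQuot_affine {k : Type u} [Field k] [CharZero k]
    (G X : Over (Spec (CommRingCat.of k))) [GrpObj G] (hG : Red.IsReductive G) [IsAffine X.left]
    (a : AlgGrp.Action G X) :
    ∃ (Y : Over (Spec (CommRingCat.of k))) (φ : X ⟶ Y), IsAffine Y.left ∧
      Function.Injective φ.left.appTop ∧
      Set.range φ.left.appTop = {f : Γ(X.left, ⊤) | a.act.left.appTop f = (snd G X).left.appTop f} ∧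
      GIT.IsUnivCatQuot a φ ∧ GIT.IsUnivSubmersive φ.left ∧
      (IsNoetherian X.left → IsNoetherian Y.left) ∧
      (LocallyOfFiniteType X.hom → LocallyOfFiniteType Y.hom) := by
  obtain ⟨A, _, _, _, _, R, _, _, _, _, e, f, hLR, hact⟩ := exists_model_reductive G X hG a
  let E : EqvIso a (CoactBr.action k A R) := ⟨e, f, hact⟩
  obtain ⟨hq, hsub⟩ := isUnivCatQuot_quotMap k A R hLR
  let φ : X ⟶ CoactBr.sp k (GLin.invariants k A R) := f.hom ≫ quotMap k A R
  have hqφ : GIT.IsUnivCatQuot a φ := E.isUnivCatQuot hq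
  obtain ⟨hinj, hran⟩ := Groth.L18.GITQ.sections_of_isUnivCatQuot hqφ ⊤
  haveI : IsIso f.inv.left := inferInstanceAs (IsIso ((Over.forget _).map f.inv))
  haveI : IsIso f.hom.left := inferInstanceAs (IsIso ((Over.forget _).map f.hom))
  refine ⟨_, φ, inferInstanceAs (IsAffine (Spec _)), hinj, hran.trans (Set.ext fun g => isInvSection_top_iff φ g),
    hqφ, E.isUnivSubmersive hsub, fun hN => ?_, fun hT => ?_⟩
  · haveI := hN
    haveI : IsLocallyNoetherian (Spec (CommRingCat.of R)) := isLocallyNoetherian_of_isOpenImmersion f.inv.left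
    haveI : IsNoetherianRing R := isNoetherian_Spec.1 (AlgebraicGeometry.IsNoetherian.mk : IsNoetherian (Spec (CommRingCat.of R)))
    haveI : IsNoetherianRing ↥(GLin.invariants k A R) := Groth.L08.isNoetherianRing_invariants hLR
    exact inferInstanceAs (IsNoetherian (Spec (CommRingCat.of ↥(GLin.invariants k A R))))
  · haveI := hT
    haveI : Algebra.FiniteType k R := by
      have h1 : LocallyOfFiniteType (Spec.map (CommRingCat.ofHom (algebraMap k R))) := by
        have e : Spec.map (CommRingCat.ofHom (algebraMap k R)) = f.inv.left ≫ X.hom := (Over.w f.inv).symm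
        rw [e]
        infer_instance
      rw [HasRingHomProperty.Spec_iff (P := @LocallyOfFiniteType), CommRingCat.hom_ofHom,
        RingHom.finiteType_algebraMap] at h1
      exact h1
    obtain ⟨s, hs, hgen⟩ := Groth.L08.exists_finset_invariants (R := R) hLR
    haveI : Algebra.FiniteType k ↥(GLin.invariants k A R) := by
      refine (Subalgebra.fg_iff_finiteType _).1 ⟨s, le_antisymm (Algebra.adjoin_le hs) hgen⟩
    change LocallyOfFiniteType (Spec.map (CommRingCat.ofHom (algebraMap k ↥(GLin.invariants k A R))))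
    rw [HasRingHomProperty.Spec_iff (P := @LocallyOfFiniteType), CommRingCat.hom_ofHom,
      RingHom.finiteType_algebraMap]
    infer_instance

end Groth.L14.GITAff
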